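import Cfsg.Agent.H489.Cyc.ONDeg
import Cfsg.Agent.H489.DegRu_m3
import Cfsg.Agent.H921.SporSuz
import Cfsg.Agent.Lib.PermNetFast
import Cfsg.Agent.SplitTwo.HexDefs
import Cfsg.Agent.H384.LargeIdxB_m3
import Cfsg.Agent.H378.OmD4
import Cfsg.Agent.H378.SmallTor_m3
import Cfsg.Agent.H967.FaTw
import Cfsg.Agent.H166.FieldAut
import Cfsg.Agent.S2342
import Cfsg.Agent.Hexagon.TwD4Par
import Cfsg.Agent.Schreier.ThreeD4
import Cfsg.Agent.S1071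
import Cfsg.Agent.FastGrp
import Cfsg.Agent.Prune
set_option linter.all false

section
prune_inst 0x7ffcfff9afb8bddfdfff7e7ffedbdffc39c0dfffefdffb4bfff8e1bf0fdf030e39c52bad1de050ff0ed7629c30b87853f9ffdeffef6bdc7ffffd5ff45ffbee5ff5f7bd0971d68c340f3c0ff703f07fce7f3fffffffffffffffffffffffffffbeffffffffffff

-- part: H489/Cyc/RuDeg_mg
section
set_option linter.all false
open scoped Cfsg.Agent.FastGrp
private noncomputable def lq2682c9f964 {T : Sort _} (f :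
    type_of% (@_root_.List.cons.{0}) →
    type_of% (@_root_.Prod.mk.{0, 0}) →
    type_of% (@_root_.List.nil.{0}) →
    type_of% (@_root_.List.cons.{0} (Prod Nat (Prod Nat (Prod Nat (List Nat))))) → T) : T :=
  f (@_root_.List.cons.{0}) (@_root_.Prod.mk.{0, 0}) (@_root_.List.nil.{0}) (@_root_.List.cons.{0} (Prod Nat (Prod Nat (Prod Nat (List Nat)))))

section
set_option autoImplicit false
set_option maxRecDepth 100000
set_option exponentiation.threshold 5000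

namespace Cfsg.Agent.RuFast

section fast
open Cfsg.Agent.Lib.BitNet

private def trs (x : ℕ) (l : List (ℕ × ℕ)) : ℕ :=
  l.foldr (fun p y => dsw (Nat.pow 2 p.2 - Nat.pow 2 p.1) (trMask 16 p.1 p.2) y) x

private theorem testBit_trs (x : ℕ) : ∀ l : List (ℕ × ℕ), (∀ p ∈ l, p.1 < p.2 ∧ p.2 < 16) → ∀ I < 2 ^ 16, ∃ J < 2 ^ 16,
    (trs x l).testBit I = x.testBit J ∧ ∀ j, J.testBit j = I.testBit (l.foldr (fun p i => swapIdx p.1 p.2 i) j)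
  | [], _, I, hI => ⟨I, hI, rfl, fun _ => rfl⟩
  | p :: l, h, I, hI => by
    obtain ⟨h1, h2⟩ := h p List.mem_cons_self
    obtain ⟨h3, h4⟩ := sw_trMask h1 h2 hI
    obtain ⟨J, h5, h6, h7⟩ := testBit_trs x l (fun q hq => h q (List.mem_cons_of_mem _ hq)) _ h4
    exact ⟨J, h5, (testBit_dsw (trMask_valid h1 h2) _ I).trans h6, fun j => (h7 j).trans (h3 _)⟩

private def swL : List (ℕ × ℕ) :=
  (beta% delta% lq2682c9f964 fun a b c _ =>
 (a (b 0 12)<|a (b 1 13)<|a (b 2 14)<|a (b 3 15)<|a (b 0 8)<|a (b 1 9)<|a (b 2 10)<|a (b 3 11)<|a (b 0 4)<|a (b 1 5)<|a (b 2 6)<|a (b 3 7)<|c))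

/-- the table of a network -/
private def tabN (l : List (ℕ × ℕ)) : ℕ := trs (appMr 4096 4 l.reverse (pack (fun r => idxMask 16 r) 4096 4 0)) swL

private theorem tabN_eq {l : List (ℕ × ℕ)} (h : In 4096 l) {c : ℕ} (hc : c < 4096) :
    Nat.mod (Nat.shiftRight (tabN l) (Nat.mul 16 c)) 4096 = app l c := by
  have h0 := h.app_lt hc
  refine Nat.eq_of_testBit_eq fun r => ?_
  show (tabN l >>> (16 * c) % 2 ^ 12).testBit r = _
  rw [Nat.testBit_mod_two_pow, Nat.testBit_shiftRight]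
  rcases Nat.lt_or_ge r 12 with hr | hr
  · obtain ⟨J, h1, h2, h3⟩ := testBit_trs (appMr 4096 4 l.reverse (pack (fun r => idxMask 16 r) 4096 4 0)) swL
      (by decide) (16 * c + r) (by omega)
    have h4 : J = 2 ^ 12 * r + c := Nat.eq_of_testBit_eq fun j => by
      rcases Nat.lt_or_ge j 16 with hj | hj
      · have h5 : ∀ j < 16, swL.foldr (fun p i => swapIdx p.1 p.2 i) j = if j < 12 then j + 4 else j - 12 := by decide
        rw [h3, h5 j hj, Nat.testBit_two_pow_mul_add r (show c < 2 ^ 12 from hc),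
          show 16 * c + r = 2 ^ 4 * c + r from rfl, Nat.testBit_two_pow_mul_add c (show r < 2 ^ 4 by omega)]
        by_cases h6 : j < 12
        · rw [if_pos h6, if_pos h6, if_neg (by omega), Nat.add_sub_cancel]
        · rw [if_neg h6, if_neg h6, if_pos (by omega)]
      · have h6 : 2 ^ 16 ≤ 2 ^ j := Nat.pow_le_pow_right (by decide) hj
        rw [Nat.testBit_lt_two_pow (h1.trans_le h6), Nat.testBit_lt_two_pow (lt_of_lt_of_le (by omega) h6)]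
    have h7 := testBit_appMr (k := 4) (l := l.reverse) (fun p hp => h p (List.mem_reverse.1 hp))
      (pack (fun r => idxMask 16 r) 4096 4 0) (r := r) (by omega) h0
    rw [Cfsg.Agent.Lib.BitNetSimple.app_reverse, appInv_app h.valid, testBit_pack _ 4 0 (by omega) h0, Nat.zero_add,
      testBit_idxMask (by omega), decide_eq_true (show app l c < 2 ^ 16 by omega), Bool.true_and] at h7
    rw [decide_eq_true hr, Bool.true_and, ← h7]
    exact h2.trans (congrArg _ h4)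
  · rw [decide_eq_false (by omega), Bool.false_and,
      Nat.testBit_lt_two_pow (h0.trans_le (Nat.pow_le_pow_right (by decide) hr : 2 ^ 12 ≤ 2 ^ r))]

private noncomputable def frc (x : ℕ) (k : ℕ → ℕ) : ℕ :=
  Nat.rec (motive := fun _ => ℕ) (k 0) (fun n _ => k (Nat.succ n)) x

private theorem frc_eq (x : ℕ) (k : ℕ → ℕ) : frc x k = k x := by cases x <;> rfl

/-- a word by table look-up; `tab l` is the table of the letter `l` -/
private noncomputable def gT (tab : ℕ → ℕ) (w : List ℕ) (i : ℕ) : ℕ :=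
  List.rec (motive := fun _ => ℕ) i
    (fun a _ ih => frc ih fun c => frc a fun b => Nat.mod (Nat.shiftRight (tab b) (Nat.mul 16 c)) 4096) w

private noncomputable def gX (tab : ℕ → ℕ) (ev : List ℕ → ℕ → ℕ) (w : List ℕ) (i : ℕ) : ℕ :=
  Bool.rec (motive := fun _ => ℕ) (gT tab w i) (ev w i) (Nat.ble 4096 i)

private theorem gX_eq {net : ℕ → List (ℕ × ℕ)} {tab : ℕ → ℕ} {ev : List ℕ → ℕ → ℕ} (hn : ∀ l, In 4096 (net l))
    (ht : ∀ l, tab l = tabN (net l)) (h0 : ∀ p, ev [] p = p) (h1 : ∀ l w p, ev (l :: w) p = app (net l) (ev w p)) :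
    ev = gX tab ev := funext fun w => funext fun i => by
  have key : i < 4096 → ∀ w, gT tab w i = ev w i ∧ ev w i < 4096 := by
    intro hi w
    induction w with
    | nil => exact ⟨(h0 i).symm, (h0 i).symm ▸ hi⟩
    | cons a w ih =>
      have h4 : gT tab (a :: w) i = Nat.mod (Nat.shiftRight (tab a) (Nat.mul 16 (gT tab w i))) 4096 :=
        (frc_eq (gT tab w i) fun c => frc a fun b => Nat.mod (Nat.shiftRight (tab b) (Nat.mul 16 c)) 4096).trans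
          (frc_eq a fun b => Nat.mod (Nat.shiftRight (tab b) (Nat.mul 16 (gT tab w i))) 4096)
      rw [h4, h1, ih.1, ht, tabN_eq (hn a) ih.2]
      exact ⟨rfl, (hn a).app_lt ih.2⟩
  show _ = Bool.rec (motive := fun _ => ℕ) (gT tab w i) (ev w i) (Nat.ble 4096 i)
  cases h : Nat.ble 4096 i
  · exact (key (Nat.lt_of_not_le fun e => Bool.false_ne_true (h.symm.trans (Nat.ble_eq_true_of_le e))) w).1.symm
  · rfl

end fast

section
open Cfsg.Agent.Lib.BitNet Cfsg.Agent.KFacts.RuDbl.Four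

private theorem in4 : ∀ l, In 4096 (net4 l)
  | 0 => inn_sound (by decide +kernel)
  | 1 => inn_sound (by decide +kernel)
  | 2 => inn_sound (by decide +kernel)
  | _ + 3 => inn_sound (l := Cfsg.Agent.SporadicB.RuData.net2) (by decide +kernel)

private noncomputable def ev4F : List ℕ → ℕ → ℕ := gX (fun l => tabN (net4 l)) ev4

private theorem ev4_eq : ev4 = ev4F :=
  gX_eq in4 (fun _ => rfl) (fun _ => rfl) fun l w p => Cfsg.Agent.Schreier.RuSyl.fr_eq (ev4 w p) (app (net4 l))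

private noncomputable def eqw4F (u v : List ℕ) : Bool :=
  cond (Nat.beq (ev4F u 0) (ev4F v 0)) (cond (Nat.beq (ev4F u 29) (ev4F v 29))
    (cond (Nat.beq (ev4F u 580) (ev4F v 580)) (Nat.beq (ev4F u 577) (ev4F v 577)) false) false) false

private theorem eqw4_eq : eqw4 = eqw4F :=
  congrArg (fun (e : List ℕ → ℕ → ℕ) (u v : List ℕ) => cond (Nat.beq (e u 0) (e v 0)) (cond (Nat.beq (e u 29) (e v 29))
    (cond (Nat.beq (e u 580) (e v 580)) (Nat.beq (e u 577) (e v 577)) false) false) false) ev4_eq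

end

end Cfsg.Agent.RuFast
end


-- part: H489/Cyc/RuDeg
section
/-!
# The Rudvalis group: an elementary abelian group of order 64 with 63 conjugate functionals (helper489)

`2^6 : G_2(2)`: all elements of the subgroup are in the class 2A.
-/

set_option autoImplicit false
set_option maxRecDepth 100000
set_option maxHeartbeats 0

namespace Cfsg.Agent.H489.Cyc.RuG

open Cfsg Cfsg.Agent.SporadicB Cfsg.Agent.KFacts.RuDbl.Four
open Cfsg.Agent.H921.Spor Cfsg.Agent.H489.Deg.Ru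


def X : List (List ℕ) :=
    (beta% delta% lq2682c9f964 fun a _ c _ =>
 (a (a 2<|a 1<|a 3<|a 1<|a 2<|a 1<|a 2<|a 3<|a 2<|a 3<|a 2<|a 1<|a 2<|a 1<|a 3<|a 1<|a 2<|c)<|a (a 0<|a 1<|a 0<|a 2<|a 0<|a 2<|a 1<|a 3<|a 1<|a 2<|a 1<|a 3<|a 1<|a 2<|a 0<|a 2<|a 0<|
 a 1<|a 0<|c)<|a (a 2<|a 0<|a 1<|a 0<|a 3<|a 2<|a 0<|a 2<|a 0<|a 3<|a 0<|a 2<|a 0<|a 2<|a 3<|a 0<|a 1<|a 0<|a 2<|c)<|a (a 1<|a 3<|a 0<|a 3<|a 1<|a 0<|a 2<|a 3<|a 1<|a 3<|a 1<|a 3<|a 2<|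
 a 0<|a 1<|a 3<|a 0<|a 3<|a 1<|c)<|a (a 0<|a 1<|a 0<|a 3<|a 2<|a 1<|a 2<|a 1<|a 0<|a 1<|a 2<|a 1<|a 3<|a 0<|a 2<|a 3<|a 1<|a 0<|a 2<|c)<|a (a 2<|a 1<|a 0<|a 1<|a 0<|a 2<|a 1<|a 0<|a 3<|
 a 1<|a 3<|a 0<|a 1<|a 2<|a 0<|a 1<|a 0<|a 1<|a 2<|c)<|c))

def G : List (List ℕ) :=
    (beta% delta% lq2682c9f964 fun a _ c _ =>
 (a (a 1<|a 0<|a 2<|a 1<|a 2<|a 3<|a 0<|a 3<|a 1<|a 3<|a 0<|a 3<|a 1<|a 2<|a 1<|a 3<|a 2<|a 1<|a 3<|c)<|a (a 2<|a 3<|a 0<|a 1<|a 0<|a 3<|a 1<|a 2<|a 1<|a 3<|a 1<|a 2<|a 3<|a 0<|a 1<|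
 a 3<|a 0<|a 2<|a 3<|a 0<|c)<|c))

def B : List (List (List ℕ)) :=
    (beta% delta% lq2682c9f964 fun a _ c _ =>
 (a (a (a 0<|a 1<|a 1<|a 0<|a 1<|a 1<|c)<|a (a 1<|a 1<|a 0<|a 0<|a 1<|a 1<|c)<|a (a 0<|a 0<|a 0<|a 1<|a 0<|a 1<|c)<|a (a 0<|a 1<|a 1<|a 1<|a 0<|a 0<|c)<|a (a 1<|a 0<|a 1<|a 1<|a 0<|a 0<|c)<|a (a 0<|
 a 0<|a 1<|a 1<|a 1<|a 0<|c)<|c)<|a (a (a 1<|a 1<|a 0<|a 1<|a 0<|a 0<|c)<|a (a 0<|a 1<|a 0<|a 1<|a 0<|a 0<|c)<|a (a 1<|a 1<|a 0<|a 1<|a 1<|a 0<|c)<|a (a 1<|a 0<|a 1<|a 1<|a 1<|a 0<|c)<|a (a 0<|a 0<|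
 a 0<|a 1<|a 0<|a 0<|c)<|a (a 1<|a 0<|a 0<|a 1<|a 1<|a 1<|c)<|c)<|c))

def Bi : List (List (List ℕ)) :=
    (beta% delta% lq2682c9f964 fun a _ c _ =>
 (a (a (a 1<|a 0<|a 1<|a 1<|a 1<|a 1<|c)<|a (a 1<|a 0<|a 1<|a 0<|a 0<|a 1<|c)<|a (a 0<|a 1<|a 1<|a 1<|a 1<|a 1<|c)<|a (a 1<|a 1<|a 0<|a 0<|a 1<|a 0<|c)<|a (a 1<|a 0<|a 1<|a 1<|a 0<|a 0<|c)<|a (a 1<|
 a 1<|a 1<|a 0<|a 1<|a 0<|c)<|c)<|a (a (a 1<|a 1<|a 0<|a 0<|a 0<|a 0<|c)<|a (a 0<|a 1<|a 0<|a 0<|a 1<|a 0<|c)<|a (a 0<|a 1<|a 1<|a 1<|a 1<|a 0<|c)<|a (a 0<|a 0<|a 0<|a 0<|a 1<|a 0<|c)<|a (a 1<|a 0<|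
 a 1<|a 0<|a 0<|a 0<|c)<|a (a 0<|a 1<|a 1<|a 0<|a 1<|a 1<|c)<|c)<|c))

def Ls : List (List ℕ × List (ℕ × ℕ × ℕ × List ℕ)) :=
    (beta% delta% lq2682c9f964 fun a b c d =>
 (a (b (a 0<|a 0<|a 0<|a 0<|a 0<|a 1<|c) (let e:=(let e:=(let e:=(let e:=(d (b 22<|b 1<|b 3 (a 0<|a 1<|a 0<|a 1<|a 1<|a 0<|c))<|d (b 22<|b 0<|b 2 (a 0<|a 1<|a 1<|
 a 1<|a 1<|a 0<|c))<|d (b 23<|b 3<|b 1 (a 0<|a 1<|a 1<|a 0<|a 1<|a 0<|c))<|d (b 23<|b 1<|b 3 (a 0<|a 1<|a 0<|a 1<|a 1<|a 1<|c))<|c);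
 (d (b 21<|b 1<|b 3 (a 1<|a 0<|a 1<|a 1<|a 1<|a 1<|c))<|d (b 21<|b 3<|b 1 (a 1<|a 1<|a 0<|a 0<|a 1<|a 0<|c))<|d (b 21<|b 0<|b 2
 (a 1<|a 0<|a 0<|a 1<|a 1<|a 0<|c))<|d (b 22<|b 3<|b 1 (a 0<|a 1<|a 1<|a 0<|a 1<|a 1<|c))<|e));
 (let e:=(d (b 19<|b 0<|b 2 (a 0<|a 0<|a 1<|a 1<|a 1<|a 1<|c))<|d (b 20<|b 1<|b 3 (a 1<|a 1<|a 1<|a 1<|a 1<|a 1<|c))<|d (b 20<|b 3<|b 1 (a 1<|a 0<|a 0<|a 0<|a 1<|a 1<|c))<|
 d (b 20<|b 0<|b 2 (a 1<|a 1<|a 0<|a 1<|a 1<|a 0<|c))<|e);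
 (d (b 19<|b 3<|b 1
 (a 1<|a 1<|a 0<|a 0<|a 1<|a 1<|c))<|d (b 19<|b 0<|b 2 (a 1<|a 1<|a 0<|a 1<|a 1<|a 1<|c))<|d (b 20<|b 1<|b 3 (a 1<|a 1<|a 1<|a 1<|a 1<|a 0<|c))<|d (b 20<|b 3<|b 1 (a 1<|a 0<|a 0<|
 a 0<|a 1<|a 0<|c))<|e)));
 (let e:=(let e:=(d (b 20<|b 3<|b 1 (a 0<|a 0<|a 1<|a 0<|a 1<|a 0<|c))<|
 d (b 20<|b 1<|b 3 (a 0<|a 0<|a 0<|a 1<|a 1<|a 0<|c))<|d (b 19<|b 0<|b 2 (a 0<|a 0<|a 1<|a 1<|a 1<|a 0<|c))<|d (b 20<|b 1<|b 3 (a 1<|a 0<|a 1<|a 1<|a 1<|a 0<|c))<|e);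
 (d (b 19<|b 0<|b 2 (a 1<|a 0<|a 0<|a 1<|a 1<|a 1<|c))<|d (b 20<|b 3<|b 1 (a 0<|a 0<|a 1<|
 a 0<|a 1<|a 1<|c))<|d (b 19<|b 1<|b 3 (a 0<|a 0<|a 0<|a 1<|a 1<|a 1<|c))<|d (b 19<|b 0<|b 2 (a 0<|a 1<|a 1<|a 1<|a 1<|a 1<|c))<|e));
 (d (b 16<|b 2<|b 0 (a 1<|a 0<|a 0<|a 0<|a 0<|a 1<|c))<|d (b 16<|b 0<|b 2 (a 1<|a 1<|a 1<|a 1<|a 0<|a 1<|c))<|
 d (b 17<|b 2<|b 0 (a 0<|a 1<|a 1<|a 0<|a 0<|a 0<|c))<|d (b 17<|b 0<|b 2 (a 1<|a 1<|a 0<|a 0<|a 0<|a 0<|c))<|d (b 18<|b 2<|b 0 (a 1<|a 0<|a 1<|a 1<|a 0<|a 0<|c))<|d (b 18<|b 0<|b 2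
 (a 1<|a 1<|a 0<|a 0<|a 0<|a 1<|c))<|d (b 19<|b 2<|b 0 (a 1<|a 0<|a 1<|a 1<|a 0<|a 1<|c))<|e)));
 (let e:=(let e:=(let e:=(d (b 14<|b 0<|b 2 (a 0<|a 0<|a 0<|a 1<|a 0<|a 1<|c))<|d (b 15<|b 2<|b 0 (a 1<|a 0<|a 0<|a 0<|a 0<|a 0<|c))<|d (b 16<|b 3<|b 1 (a 1<|a 0<|a 0<|
 a 1<|a 0<|a 0<|c))<|d (b 15<|b 0<|b 2 (a 0<|a 0<|a 0<|a 1<|a 0<|a 0<|c))<|e);
 (d (b 12<|b 3<|b 1 (a 0<|a 1<|a 1<|a 1<|a 0<|a 0<|c))<|d (b 12<|b 0<|b 2 (a 1<|a 1<|a 1<|a 1<|a 0<|a 0<|c))<|d (b 13<|b 1<|b 3 (a 1<|a 0<|a 0<|a 1<|a 0<|a 1<|c))<|d (b 14<|b 2<|b 0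
 (a 0<|a 1<|a 1<|a 0<|a 0<|a 1<|c))<|e));
 (let e:=(d (b 9<|b 1<|b 3 (a 0<|a 1<|a 1<|
 a 1<|a 0<|a 1<|c))<|d (b 10<|b 2<|b 0 (a 0<|a 1<|a 0<|a 1<|a 0<|a 0<|c))<|d (b 10<|b 0<|b 2 (a 0<|a 0<|a 1<|a 0<|a 0<|a 1<|c))<|d (b 11<|b 2<|b 0 (a 0<|a 1<|a 0<|a 1<|a 0<|a 1<|c))<|
 e);
 (d (b 8<|b 3<|b 1 (a 0<|a 1<|a 0<|a 0<|a 1<|a 1<|c))<|d (b 8<|b 1<|
 b 3 (a 1<|a 1<|a 1<|a 0<|a 1<|a 0<|c))<|d (b 9<|b 3<|b 1 (a 0<|a 0<|a 0<|a 0<|a 1<|a 0<|c))<|d (b 8<|b 0<|b 2 (a 0<|a 0<|a 1<|a 0<|a 0<|a 0<|c))<|e)));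
 (let e:=(let e:=(d (b 5<|b 1<|b 3 (a 1<|a 0<|a 1<|a 0<|a 1<|a 1<|c))<|d (b 6<|b 3<|b 1 (a 0<|a 1<|a 0<|a 0<|a 1<|
 a 0<|c))<|d (b 6<|b 0<|b 2 (a 1<|a 0<|a 1<|a 0<|a 0<|a 1<|c))<|d (b 7<|b 1<|b 3 (a 1<|a 0<|a 1<|a 0<|a 1<|a 0<|c))<|e);
 (d (b 4<|b 2<|b 0 (a 0<|a 0<|a 1<|a 1<|a 0<|a 1<|c))<|d (b 4<|b 0<|b 2 (a 1<|a 0<|a 1<|a 0<|a 0<|a 0<|c))<|d (b 5<|b 1<|b 3 (a 1<|
 a 1<|a 1<|a 0<|a 1<|a 1<|c))<|d (b 6<|b 3<|b 1 (a 0<|a 0<|a 0<|a 0<|a 1<|a 1<|c))<|e));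
 (a (b 0<|b 0<|b 2 (a 1<|a 1<|a 1<|a 0<|a 0<|a 0<|c))<|a (b 0<|b 1<|b 3 (a 0<|a 1<|a 0<|a 0<|a 0<|a 1<|c))<|a (b 1<|b 3<|b 1 (a 0<|a 1<|a 0<|
 a 0<|a 0<|a 0<|c))<|a (b 1<|b 0<|b 2 (a 0<|a 0<|a 1<|a 1<|a 0<|a 0<|c))<|a (b 2<|b 1<|b 3 (a 1<|a 1<|a 1<|a 0<|a 0<|a 1<|c))<|a (b 3<|b 2<|b 0 (a 1<|a 1<|a 0<|a 1<|a 0<|a 1<|c))<|
 a (b 3<|b 0<|b 2 (a 1<|a 1<|a 0<|a 1<|a 0<|a 0<|c))<|e)))))<|c))

/-- all checks -/
theorem hXr : (List.range 6).all (fun i => eqw4 (Wd.rep (X.getD i []) 2) []) = true := by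
  rw [RuFast.eqw4_eq]
  decide +kernel

theorem hXc : (List.range 6).all (fun i => (List.range i).all fun j =>
    eqw4 (X.getD i [] ++ X.getD j []) (X.getD j [] ++ X.getD i [])) = true := by
  rw [RuFast.eqw4_eq]
  decide +kernel

theorem hA : (List.range 2).all (fun k => (List.range 6).all fun i =>
    eqw4 (G.getD k [] ++ X.getD i []) (Wd.pvW X 0 ((B.getD k []).getD i []) ++ G.getD k [])) = true := by
  rw [RuFast.eqw4_eq]
  decide +kernel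

theorem hO : chkO 2 6 63 (B ++ Bi) [1, 0, 0, 0, 0, 0] Ls = true := by decide +kernel

theorem hne : (!(Nat.beq (ev4 (Wd.pvW X 0 [1, 0, 0, 0, 0, 0]) 0) 0)) = true := by decide +kernel

theorem orb : Orb 2 63 RuOrder.H := by
  refine orb_bfs wd4 (r := 2) (d := 6) (X := X) (G := G) (B := B) (Bi := Bi) (c₀ := [1, 0, 0, 0, 0, 0]) (Ls := Ls)
    (by norm_num) (by norm_num) rfl ?_ ?_ hne (by decide +kernel) ?_ (by decide +kernel) hO
  · intro i hi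
    exact List.all_eq_true.1 hXr i (List.mem_range.2 hi)
  · intro i hi j hj
    exact List.all_eq_true.1 (List.all_eq_true.1 hXc i (List.mem_range.2 hi)) j (List.mem_range.2 hj)
  · intro k hk i hi
    exact List.all_eq_true.1 (List.all_eq_true.1 hA k (List.mem_range.2 hk)) i (List.mem_range.2 hi)

theorem orb' : Orb 2 63 Cfsg.Spor.Ru := orb.of_equiv' RuLat.Main.equiv

theorem hs : IsSimpleGroup Cfsg.Spor.Ru := Cfsg.Agent.RuLat.Main.main.2.2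

theorem md : H954.OutDeg.MD Cfsg.Spor.Ru 63 :=
  haveI := hs
  md_of_orb (by norm_num) orb'

end Cfsg.Agent.H489.Cyc.RuG
end

-- part: H489/Cyc/SuzDeg
section
/-!
# The Suzuki group: an elementary abelian group of order 243 with 110 or 132 conjugates of each functional (helper489)

`3^5 : M_11`; the words were found by computer in the action on 1782 points.
-/

set_option autoImplicit false
set_option maxRecDepth 100000
set_option maxHeartbeats 0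

namespace Cfsg.Agent.H489.Cyc.SuzG

open Cfsg Cfsg.Agent.OddHalf.Table
open Cfsg.Agent.H921.Spor
open Cfsg.Agent.SporadicRecognition.SuzOrder (eq_one_of_fix)

/-- comparison of words on the base points -/
noncomputable def eqb (u v : List ℕ) : Bool := [14, 98, 1, 1575, 0].all fun q => Nat.beq (SuzRep.ev u q) (SuzRep.ev v q)

theorem eqb_sound {u v : List ℕ} (h : eqb u v = true) : SuzRep.Wd u = SuzRep.Wd v := by
  have h1 : (SuzRep.Wd v)⁻¹ * SuzRep.Wd u = 1 := by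
    refine eq_one_of_fix fun q hq => ?_
    have h2 := Nat.eq_of_beq_eq_true (List.all_eq_true.1 h q hq)
    rw [SuzRep.ev_eq, SuzRep.ev_eq] at h2
    rw [map_mul, map_inv, Equiv.Perm.mul_apply, h2]
    exact Equiv.symm_apply_apply _ _
  exact (inv_mul_eq_one.1 h1).symm

/-- the words of `SuzRep` -/
noncomputable def wd : Wd Cfsg.Spor.Suz where
  W := SuzRep.Wd
  nil := SuzRep.Wd_nil
  app := SuzRep.Wd_append
  eq := eqb
  eq_sound := eqb_sound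
  ne := fun u => (List.range 8).any fun i => !(Nat.beq (SuzRep.ev u i) (SuzRep.ev [] i))
  ne_sound := by
    intro u h
    rw [List.any_eq_true] at h
    obtain ⟨i, _, h⟩ := h
    rw [← SuzRep.Wd_nil]
    exact SuzRep.ne_of_ev (p := i) (by simpa using h)


def X : List (List ℕ) :=
    (beta% delta% lq2682c9f964 fun a _ c _ =>
 (a (a 12<|a 4<|a 1<|a 11<|a 10<|a 0<|a 4<|a 12<|c)<|a (a 6<|a 0<|a 6<|a 8<|a 0<|a 8<|a 6<|a 4<|a 2<|c)<|a (a 8<|a 9<|a 13<|a 2<|a 2<|a 1<|a 4<|a 11<|a 7<|c)<|a (a 1<|a 5<|a 8<|a 3<|a 5<|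
 a 13<|a 1<|a 6<|a 11<|c)<|a (a 3<|a 6<|a 10<|a 13<|a 4<|a 9<|a 2<|a 13<|a 1<|a 3<|c)<|c))

def G : List (List ℕ) :=
    (beta% delta% lq2682c9f964 fun a _ c _ =>
 (a (a 7<|a 5<|a 3<|a 7<|a 2<|a 5<|a 7<|c)<|a (a 1<|a 12<|a 1<|a 5<|a 8<|a 3<|a 9<|a 3<|a 7<|c)<|c))

def B : List (List (List ℕ)) :=
    (beta% delta% lq2682c9f964 fun a _ c _ =>
 (a (a (a 1<|a 2<|a 1<|a 0<|a 2<|c)<|a (a 1<|a 2<|a 2<|a 2<|a 0<|c)<|a (a 2<|a 0<|a 1<|a 1<|a 1<|c)<|a (a 1<|a 2<|a 1<|a 0<|a 1<|c)<|a (a 1<|a 0<|a 0<|a 2<|a 0<|c)<|c)<|a (a (a 2<|a 2<|a 2<|a 1<|a 0<|c)<|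
 a (a 1<|a 0<|a 0<|a 2<|a 1<|c)<|a (a 0<|a 0<|a 2<|a 0<|a 1<|c)<|a (a 0<|a 1<|a 1<|a 2<|a 1<|c)<|a (a 2<|a 1<|a 0<|a 1<|a 0<|c)<|c)<|c))

def Bi : List (List (List ℕ)) :=
    (beta% delta% lq2682c9f964 fun a _ c _ =>
 (a (a (a 1<|a 2<|a 1<|a 0<|a 2<|c)<|a (a 1<|a 2<|a 2<|a 2<|a 0<|c)<|a (a 2<|a 0<|a 1<|a 1<|a 1<|c)<|a (a 1<|a 2<|a 1<|a 0<|a 1<|c)<|a (a 1<|a 0<|a 0<|a 2<|a 0<|c)<|c)<|a (a (a 0<|a 2<|a 2<|a 2<|a 1<|c)<|
 a (a 2<|a 2<|a 1<|a 0<|a 0<|c)<|a (a 1<|a 2<|a 1<|a 0<|a 1<|c)<|a (a 1<|a 0<|a 1<|a 2<|a 2<|c)<|a (a 1<|a 2<|a 2<|a 0<|a 1<|c)<|c)<|c))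

def Ls : List (List ℕ × List (ℕ × ℕ × ℕ × List ℕ)) :=
    (beta% delta% lq2682c9f964 fun a b c d =>
 (a (b (a 0<|a 0<|a 0<|a 0<|a 1<|c) (let e:=(let e:=(let e:=(let e:=(let e:=(d (b 22<|b 3<|b 1 (a 0<|a 2<|a 0<|a 2<|a 1<|c))<|d (b 22<|b 1<|b 3 (a 1<|a 0<|a 2<|a 2<|a 0<|c))<|d (b 21<|
 b 3<|b 1 (a 2<|a 0<|a 2<|a 0<|a 2<|c))<|d (b 21<|b 1<|b 3 (a 2<|a 0<|a 0<|a 1<|a 2<|c))<|d (b 14<|b 0<|b 2 (a 1<|a 0<|a 1<|a 0<|a 2<|c))<|c);
 (d (b 21<|b 1<|b 3 (a 0<|a 0<|a 2<|a 1<|a 2<|c))<|d (b 21<|b 0<|b 2 (a 2<|a 0<|a 2<|a 0<|a 1<|c))<|d (b 21<|b 1<|b 3 (a 0<|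
 a 1<|a 2<|a 0<|a 2<|c))<|d (b 21<|b 0<|b 2 (a 1<|a 2<|a 0<|a 0<|a 2<|c))<|e));
 (let e:=(d (b 25<|b 3<|b 1 (a 2<|a 0<|a 1<|a 0<|a 0<|c))<|d (b 24<|b 1<|b 3 (a 0<|a 1<|a 1<|a 1<|a 1<|c))<|d (b 23<|b 0<|b 2 (a 2<|a 0<|a 2<|a 1<|
 a 2<|c))<|d (b 23<|b 0<|b 2 (a 2<|a 0<|a 0<|a 2<|a 2<|c))<|e);
 (d (b 28<|b 0<|b 2 (a 2<|a 1<|a 0<|a 0<|a 1<|c))<|d (b 27<|b 3<|b 1 (a 0<|a 0<|a 2<|a 1<|a 1<|c))<|d (b 26<|b 0<|b 2 (a 2<|a 2<|a 1<|a 0<|a 1<|c))<|d (b 25<|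
 b 3<|b 1 (a 0<|a 2<|a 2<|a 0<|a 0<|c))<|e)));
 (let e:=(let e:=(d (b 31<|b 1<|b 3 (a 0<|a 0<|a 1<|a 2<|a 1<|c))<|d (b 31<|b 1<|b 3 (a 0<|a 0<|a 0<|a 2<|a 2<|c))<|d (b 32<|b 3<|b 1 (a 1<|a 2<|a 1<|a 1<|a 0<|c))<|d (b 30<|b 3<|b 1 (a 0<|
 a 1<|a 1<|a 0<|a 2<|c))<|e);
 (d (b 34<|
 b 0<|b 2 (a 2<|a 1<|a 0<|a 1<|a 1<|c))<|d (b 32<|b 1<|b 3 (a 1<|a 1<|a 1<|a 2<|a 1<|c))<|d (b 33<|b 3<|b 1 (a 0<|a 0<|a 0<|a 0<|a 2<|c))<|d (b 32<|b 0<|b 2 (a 0<|a 0<|a 2<|a 2<|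
 a 0<|c))<|e));
 (let e:=(d (b 34<|b 1<|b 3 (a 2<|
 a 1<|a 0<|a 0<|a 2<|c))<|d (b 35<|b 3<|b 1 (a 0<|a 2<|a 1<|a 1<|a 1<|c))<|d (b 35<|b 0<|b 2 (a 2<|a 1<|a 0<|a 1<|a 2<|c))<|d (b 35<|b 3<|b 1 (a 1<|a 0<|a 0<|a 1<|a 0<|c))<|e);
 (d (b 33<|b 1<|b 3 (a 0<|a 2<|a 0<|a 0<|
 a 1<|c))<|d (b 33<|b 3<|b 1 (a 1<|a 1<|a 1<|a 0<|a 2<|c))<|d (b 33<|b 1<|b 3 (a 2<|a 2<|a 1<|a 2<|a 0<|c))<|d (b 34<|b 3<|b 1 (a 0<|a 0<|a 1<|a 2<|a 2<|c))<|e))));
 (let e:=(let e:=(let e:=(d (b 31<|b 1<|b 3 (a 0<|a 0<|a 1<|a 0<|a 0<|c))<|d (b 31<|b 0<|b 2 (a 1<|a 0<|a 1<|a 2<|a 2<|c))<|d (b 32<|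
 b 3<|b 1 (a 2<|a 0<|a 2<|a 1<|a 0<|c))<|d (b 32<|b 1<|b 3 (a 2<|a 2<|a 0<|a 0<|a 1<|c))<|d (b 33<|b 3<|b 1 (a 0<|a 0<|a 2<|a 1<|a 0<|c))<|e);
 (d (b 31<|b 3<|b 1 (a 0<|a 2<|a 0<|a 2<|a 2<|c))<|d (b 30<|b 3<|b 1 (a 1<|a 0<|a 1<|a 2<|a 0<|c))<|d (b 30<|b 0<|b 2 (a 2<|
 a 0<|a 1<|a 1<|a 2<|c))<|d (b 30<|b 0<|b 2 (a 0<|a 2<|a 2<|a 1<|a 1<|c))<|e));
 (let e:=(d (b 31<|b 1<|b 3 (a 0<|a 1<|a 2<|a 2<|a 2<|c))<|d (b 30<|b 3<|b 1 (a 1<|a 2<|a 2<|a 0<|a 1<|c))<|d (b 30<|b 0<|b 2 (a 2<|a 0<|a 2<|a 2<|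
 a 1<|c))<|d (b 31<|b 1<|b 3 (a 1<|a 1<|a 0<|a 2<|a 0<|c))<|e);
 (d (b 30<|b 1<|b 3 (a 2<|a 2<|a 2<|a 0<|a 1<|c))<|d (b 31<|b 3<|b 1 (a 1<|a 2<|a 1<|a 1<|a 1<|c))<|d (b 31<|b 1<|b 3 (a 1<|a 0<|a 2<|a 1<|a 0<|c))<|d (b 31<|
 b 0<|b 2 (a 0<|a 0<|a 2<|a 0<|a 0<|c))<|e)));
 (let e:=(let e:=(d (b 29<|b 3<|b 1 (a 1<|a 0<|a 1<|a 1<|a 0<|c))<|d (b 29<|b 0<|b 2 (a 1<|a 1<|a 2<|a 1<|a 0<|c))<|d (b 29<|b 0<|b 2 (a 0<|a 0<|a 2<|a 2<|a 2<|c))<|d (b 30<|b 3<|b 1 (a 1<|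
 a 1<|a 2<|a 1<|a 2<|c))<|e);
 (d (b 27<|
 b 1<|b 3 (a 0<|a 1<|a 1<|a 2<|a 0<|c))<|d (b 27<|b 0<|b 2 (a 0<|a 2<|a 2<|a 2<|a 0<|c))<|d (b 28<|b 3<|b 1 (a 0<|a 1<|a 2<|a 0<|a 0<|c))<|d (b 28<|b 1<|b 3 (a 2<|a 2<|a 1<|a 2<|
 a 1<|c))<|e));
 (let e:=(d (b 25<|b 0<|b 2 (a 0<|
 a 0<|a 0<|a 2<|a 0<|c))<|d (b 25<|b 0<|b 2 (a 2<|a 0<|a 0<|a 0<|a 0<|c))<|d (b 26<|b 3<|b 1 (a 0<|a 0<|a 0<|a 2<|a 1<|c))<|d (b 26<|b 0<|b 2 (a 1<|a 0<|a 1<|a 0<|a 0<|c))<|e);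
 (d (b 26<|b 3<|b 1 (a 0<|a 0<|a 1<|a 1<|
 a 0<|c))<|d (b 26<|b 0<|b 2 (a 1<|a 0<|a 1<|a 1<|a 2<|c))<|d (b 25<|b 0<|b 2 (a 1<|a 0<|a 0<|a 0<|a 0<|c))<|d (b 25<|b 1<|b 3 (a 2<|a 0<|a 1<|a 0<|a 1<|c))<|e)))));
 (let e:=(let e:=(let e:=(let e:=(d (b 24<|b 3<|b 1 (a 1<|a 0<|a 2<|a 2<|a 1<|c))<|d (b 24<|b 1<|b 3 (a 2<|a 1<|a 1<|a 1<|a 2<|c))<|d (b 25<|
 b 3<|b 1 (a 0<|a 1<|a 1<|a 1<|a 2<|c))<|d (b 25<|b 0<|b 2 (a 2<|a 2<|a 1<|a 1<|a 1<|c))<|d (b 25<|b 1<|b 3 (a 2<|a 1<|a 2<|a 2<|a 2<|c))<|e);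
 (d (b 23<|b 1<|b 3 (a 0<|a 1<|a 0<|a 2<|a 0<|c))<|d (b 24<|b 3<|b 1 (a 0<|a 0<|a 2<|a 2<|a 1<|c))<|d (b 23<|b 1<|b 3 (a 0<|
 a 1<|a 1<|a 0<|a 0<|c))<|d (b 23<|b 0<|b 2 (a 0<|a 2<|a 2<|a 2<|a 1<|c))<|e));
 (let e:=(d (b 22<|b 3<|b 1 (a 2<|a 1<|a 2<|a 2<|a 0<|c))<|d (b 22<|b 1<|b 3 (a 0<|a 1<|a 0<|a 1<|a 2<|c))<|d (b 23<|b 3<|b 1 (a 1<|a 2<|a 0<|a 0<|
 a 1<|c))<|d (b 23<|b 0<|b 2 (a 1<|a 2<|a 2<|a 2<|a 1<|c))<|e);
 (d (b 21<|b 1<|b 3 (a 2<|a 0<|a 2<|a 2<|a 0<|c))<|d (b 22<|b 3<|b 1 (a 0<|a 2<|a 0<|a 1<|a 1<|c))<|d (b 22<|b 0<|b 2 (a 0<|a 1<|a 0<|a 0<|a 2<|c))<|d (b 21<|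
 b 0<|b 2 (a 0<|a 1<|a 0<|a 2<|a 2<|c))<|e)));
 (let e:=(let e:=(d (b 20<|b 3<|b 1 (a 2<|a 2<|a 1<|a 2<|a 2<|c))<|d (b 20<|b 1<|b 3 (a 2<|a 0<|a 0<|a 2<|a 1<|c))<|d (b 21<|b 3<|b 1 (a 0<|a 0<|a 1<|a 0<|a 1<|c))<|d (b 21<|b 0<|b 2 (a 2<|
 a 0<|a 2<|a 0<|a 0<|c))<|e);
 (d (b 18<|
 b 0<|b 2 (a 1<|a 2<|a 0<|a 2<|a 2<|c))<|d (b 19<|b 1<|b 3 (a 1<|a 1<|a 2<|a 1<|a 1<|c))<|d (b 19<|b 0<|b 2 (a 0<|a 2<|a 1<|a 2<|a 2<|c))<|d (b 20<|b 3<|b 1 (a 0<|a 1<|a 2<|a 0<|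
 a 1<|c))<|e));
 (let e:=(d (b 16<|b 0<|b 2 (a 2<|
 a 1<|a 1<|a 0<|a 2<|c))<|d (b 17<|b 1<|b 3 (a 0<|a 1<|a 1<|a 2<|a 1<|c))<|d (b 17<|b 0<|b 2 (a 0<|a 2<|a 2<|a 0<|a 1<|c))<|d (b 18<|b 3<|b 1 (a 0<|a 2<|a 0<|a 1<|a 0<|c))<|e);
 (d (b 14<|b 0<|b 2 (a 0<|a 2<|a 2<|a 1<|
 a 2<|c))<|d (b 15<|b 3<|b 1 (a 0<|a 0<|a 1<|a 2<|a 0<|c))<|d (b 15<|b 1<|b 3 (a 1<|a 0<|a 0<|a 1<|a 1<|c))<|d (b 16<|b 3<|b 1 (a 2<|a 0<|a 2<|a 1<|a 1<|c))<|e))));
 (let e:=(let e:=(let e:=(d (b 12<|b 1<|b 3 (a 1<|a 0<|a 1<|a 0<|a 1<|c))<|d (b 13<|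
 b 3<|b 1 (a 0<|a 0<|a 1<|a 1<|a 1<|c))<|d (b 13<|b 0<|b 2 (a 0<|a 2<|a 1<|a 0<|a 1<|c))<|d (b 14<|b 1<|b 3 (a 0<|a 1<|a 1<|a 2<|a 2<|c))<|e);
 (d (b 10<|b 0<|b 2 (a 2<|a 1<|a 0<|a 2<|a 0<|c))<|d (b 11<|b 1<|b 3 (a 1<|
 a 0<|a 0<|a 1<|a 2<|c))<|d (b 11<|b 0<|b 2 (a 2<|a 0<|a 1<|a 2<|a 0<|c))<|d (b 12<|b 3<|b 1 (a 0<|a 2<|a 2<|a 1<|a 0<|c))<|e));
 (let e:=(d (b 10<|b 3<|b 1 (a 2<|a 2<|a 0<|a 1<|a 0<|c))<|d (b 9<|b 1<|b 3 (a 0<|a 0<|a 0<|a 1<|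
 a 2<|c))<|d (b 10<|b 3<|b 1 (a 0<|a 1<|a 2<|a 1<|a 1<|c))<|d (b 10<|b 0<|b 2 (a 0<|a 2<|a 1<|a 0<|a 2<|c))<|e);
 (d (b 8<|b 1<|b 3 (a 1<|a 0<|a 2<|a 0<|a 0<|c))<|d (b 9<|b 3<|b 1 (a 1<|a 1<|a 2<|a 2<|a 2<|c))<|d (b 9<|
 b 0<|b 2 (a 0<|a 2<|a 2<|a 2<|a 2<|c))<|d (b 9<|b 1<|b 3 (a 0<|a 0<|a 1<|a 1<|a 2<|c))<|e)));
 (let e:=(let e:=(d (b 7<|b 3<|b 1 (a 0<|a 0<|a 0<|a 1<|a 0<|c))<|d (b 7<|b 1<|b 3 (a 1<|a 2<|a 0<|a 1<|a 0<|c))<|d (b 8<|b 3<|b 1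
 (a 0<|a 2<|a 1<|a 0<|a 0<|c))<|d (b 8<|b 0<|b 2 (a 0<|a 0<|a 0<|a 1<|a 1<|c))<|e);
 (d (b 5<|b 3<|b 1 (a 1<|a 0<|a 0<|a 2<|a 1<|c))<|d (b 5<|b 0<|b 2 (a 0<|a 1<|a 0<|a 1<|a 1<|c))<|d (b 6<|b 1<|b 3 (a 2<|a 0<|
 a 0<|a 2<|a 0<|c))<|d (b 6<|b 0<|b 2 (a 1<|a 0<|a 2<|a 0<|a 2<|c))<|e));
 (let e:=(d (b 3<|b 3<|b 1 (a 1<|a 2<|a 0<|a 2<|a 1<|c))<|d (b 3<|b 0<|b 2 (a 0<|a 0<|a 2<|a 0<|a 2<|c))<|d (b 4<|b 1<|b 3 (a 2<|a 2<|a 2<|a 1<|
 a 2<|c))<|d (b 4<|b 0<|b 2 (a 1<|a 1<|a 0<|a 0<|a 2<|c))<|e);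
 (a (b 0<|b 0<|b 2 (a 2<|a 0<|a 1<|a 1<|a 0<|c))<|a (b 1<|b 1<|b 3 (a 0<|a 1<|a 1<|a 1<|a 0<|c))<|a (b 2<|b 3<|b 1 (a 1<|a 0<|a 1<|a 2<|a 1<|c))<|
 a (b 2<|b 1<|b 3 (a 1<|a 1<|a 2<|a 0<|a 2<|c))<|e)))))))<|a (b (a 0<|a 0<|a 1<|a 0<|a 2<|c) (let e:=(let e:=(let e:=(let e:=(d (b 17<|b 1<|b 3 (a 2<|a 2<|a 1<|a 1<|a 2<|c))<|d (b 17<|
 b 3<|b 1 (a 2<|a 0<|a 1<|a 1<|a 1<|c))<|d (b 17<|b 1<|b 3 (a 1<|a 0<|a 0<|a 2<|a 2<|c))<|d (b 18<|b 3<|b 1 (a 1<|a 1<|a 1<|a 0<|a 1<|c))<|d (b 16<|b 1<|b 3 (a 2<|a 2<|a 0<|a 1<|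
 a 1<|c))<|d (b 16<|b 1<|b 3 (a 2<|a 2<|a 0<|a 0<|a 2<|c))<|d (b 7<|b 3<|b 1 (a 1<|a 1<|a 2<|a 0<|a 1<|c))<|c);
 (d (b 29<|b 0<|b 2 (a 2<|a 1<|a 2<|a 1<|
 a 0<|c))<|d (b 30<|b 3<|b 1 (a 2<|a 0<|a 1<|a 0<|a 2<|c))<|d (b 30<|b 0<|b 2 (a 1<|a 2<|a 2<|a 2<|a 0<|c))<|d (b 29<|b 1<|b 3 (a 1<|a 2<|a 0<|a 0<|a 0<|c))<|d (b 30<|b 3<|b 1 (a 2<|
 a 1<|a 2<|a 0<|a 1<|c))<|d (b 19<|b 0<|b 2 (a 2<|a 2<|a 2<|a 1<|a 0<|c))<|d (b 16<|b 0<|b 2 (a 0<|a 1<|a 0<|a 2<|a 1<|c))<|e));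
 (let e:=(d (b 30<|b 0<|b 2 (a 1<|
 a 2<|a 1<|a 0<|a 0<|c))<|d (b 30<|b 0<|b 2 (a 1<|a 2<|a 1<|a 0<|a 1<|c))<|d (b 30<|b 1<|b 3 (a 0<|a 2<|a 2<|a 0<|a 2<|c))<|d (b 31<|b 3<|b 1 (a 2<|a 1<|a 1<|a 2<|a 0<|c))<|d (b 31<|
 b 1<|b 3 (a 1<|a 1<|a 1<|a 1<|a 2<|c))<|d (b 32<|b 3<|b 1 (a 0<|a 2<|a 1<|a 2<|a 1<|c))<|d (b 29<|b 1<|b 3 (a 1<|a 2<|a 2<|a 1<|a 0<|c))<|e);
 (d (b 29<|
 b 3<|b 1 (a 2<|a 1<|a 0<|a 0<|a 0<|c))<|d (b 29<|b 1<|b 3 (a 1<|a 2<|a 1<|a 2<|a 1<|c))<|d (b 30<|b 3<|b 1 (a 1<|a 1<|a 1<|a 2<|a 2<|c))<|d (b 29<|b 1<|b 3 (a 1<|a 0<|a 0<|a 0<|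
 a 1<|c))<|d (b 30<|b 3<|b 1 (a 1<|a 2<|a 0<|a 1<|a 2<|c))<|d (b 30<|b 0<|b 2 (a 0<|a 2<|a 0<|a 0<|a 0<|c))<|d (b 30<|b 3<|b 1 (a 2<|a 1<|a 2<|a 1<|a 1<|c))<|e)));
 (let e:=(let e:=(d (b 28<|b 1<|b 3 (a 2<|a 2<|a 0<|a 1<|a 2<|c))<|d (b 28<|b 3<|b 1 (a 0<|a 0<|a 2<|a 0<|a 1<|c))<|d (b 28<|b 0<|b 2 (a 1<|a 0<|a 0<|a 2<|a 0<|c))<|d (b 29<|b 1<|b 3 (a 0<|
 a 2<|a 1<|a 1<|a 2<|c))<|d (b 29<|b 3<|b 1 (a 1<|a 1<|a 1<|a 1<|a 0<|c))<|d (b 29<|b 3<|b 1 (a 2<|a 2<|a 2<|a 2<|a 1<|c))<|d (b 29<|b 1<|b 3 (a 2<|a 0<|a 1<|a 2<|a 1<|c))<|e);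
 (d (b 27<|b 3<|b 1 (a 1<|a 1<|a 0<|a 2<|a 2<|c))<|d (b 27<|b 0<|b 2 (a 1<|a 0<|a 2<|a 1<|a 2<|c))<|d (b 27<|b 1<|b 3 (a 1<|a 1<|a 2<|a 2<|a 1<|c))<|d (b 27<|
 b 0<|b 2 (a 0<|a 2<|a 1<|a 2<|a 0<|c))<|d (b 28<|b 3<|b 1 (a 1<|a 0<|a 2<|a 2<|a 2<|c))<|d (b 28<|b 3<|b 1 (a 2<|a 1<|a 1<|a 2<|a 1<|c))<|d (b 27<|b 0<|b 2 (a 0<|a 2<|a 1<|a 1<|
 a 0<|c))<|e));
 (let e:=(d (b 24<|b 0<|b 2 (a 2<|a 2<|a 0<|a 2<|a 1<|c))<|d (b 25<|b 1<|b 3 (a 0<|a 1<|a 2<|a 1<|a 0<|c))<|d (b 25<|b 0<|b 2 (a 1<|a 2<|a 0<|a 1<|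
 a 1<|c))<|d (b 26<|b 3<|b 1 (a 1<|a 2<|a 1<|a 2<|a 2<|c))<|d (b 26<|b 1<|b 3 (a 1<|a 2<|a 1<|a 2<|a 0<|c))<|d (b 27<|b 3<|b 1 (a 0<|a 1<|a 1<|a 0<|a 1<|c))<|d (b 26<|b 1<|b 3 (a 1<|
 a 1<|a 0<|a 1<|a 2<|c))<|e);
 (d (b 23<|b 0<|b 2 (a 1<|a 2<|a 2<|a 0<|a 2<|c))<|d (b 24<|b 3<|b 1 (a 1<|
 a 1<|a 0<|a 1<|a 0<|c))<|d (b 23<|b 0<|b 2 (a 2<|a 2<|a 2<|a 0<|a 0<|c))<|d (b 23<|b 1<|b 3 (a 0<|a 1<|a 0<|a 0<|a 1<|c))<|d (b 24<|b 3<|b 1 (a 2<|a 1<|a 1<|a 1<|a 1<|c))<|d (b 24<|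
 b 0<|b 2 (a 1<|a 0<|a 2<|a 0<|a 1<|c))<|e))));
 (let e:=(let e:=(let e:=(d (b 21<|b 1<|b 3 (a 1<|a 2<|a 1<|a 1<|a 2<|c))<|d (b 22<|
 b 3<|b 1 (a 1<|a 0<|a 2<|a 1<|a 1<|c))<|d (b 22<|b 0<|b 2 (a 2<|a 1<|a 2<|a 0<|a 2<|c))<|d (b 22<|b 1<|b 3 (a 1<|a 2<|a 1<|a 0<|a 2<|c))<|d (b 23<|b 3<|b 1 (a 0<|a 2<|a 0<|a 1<|
 a 2<|c))<|d (b 23<|b 0<|b 2 (a 2<|a 1<|a 1<|a 2<|a 2<|c))<|d (b 23<|b 1<|b 3 (a 1<|a 1<|a 0<|a 0<|a 0<|c))<|e);
 (d (b 19<|b 3<|b 1 (a 1<|a 1<|a 1<|a 2<|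
 a 0<|c))<|d (b 19<|b 1<|b 3 (a 2<|a 0<|a 0<|a 0<|a 2<|c))<|d (b 20<|b 3<|b 1 (a 2<|a 1<|a 0<|a 2<|a 1<|c))<|d (b 20<|b 0<|b 2 (a 1<|a 1<|a 0<|a 1<|a 1<|c))<|d (b 20<|b 3<|b 1 (a 0<|
 a 1<|a 2<|a 2<|a 1<|c))<|d (b 20<|b 1<|b 3 (a 2<|a 2<|a 2<|a 2<|a 2<|c))<|d (b 21<|b 3<|b 1 (a 1<|a 1<|a 2<|a 0<|a 0<|c))<|e));
 (let e:=(d (b 15<|b 0<|b 2 (a 0<|
 a 2<|a 0<|a 2<|a 0<|c))<|d (b 16<|b 3<|b 1 (a 2<|a 2<|a 2<|a 1<|a 1<|c))<|d (b 16<|b 1<|b 3 (a 2<|a 1<|a 1<|a 1<|a 0<|c))<|d (b 17<|b 3<|b 1 (a 1<|a 1<|a 1<|a 0<|a 0<|c))<|d (b 17<|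
 b 0<|b 2 (a 1<|a 1<|a 0<|a 0<|a 1<|c))<|d (b 18<|b 1<|b 3 (a 2<|a 2<|a 1<|a 0<|a 2<|c))<|d (b 18<|b 0<|b 2 (a 0<|a 1<|a 2<|a 1<|a 2<|c))<|e);
 (d (b 12<|b 0<|b 2 (a 2<|a 1<|a 2<|a 0<|a 0<|c))<|d (b 13<|b 3<|b 1 (a 0<|a 1<|a 0<|a 1<|a 0<|c))<|d (b 13<|b 1<|b 3 (a 2<|a 1<|a 0<|a 1<|
 a 0<|c))<|d (b 14<|b 3<|b 1 (a 2<|a 0<|a 0<|a 0<|a 1<|c))<|d (b 14<|b 0<|b 2 (a 2<|a 1<|a 2<|a 2<|a 1<|c))<|d (b 15<|b 1<|b 3 (a 2<|a 1<|a 0<|a 2<|a 2<|c))<|e)));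
 (let e:=(let e:=(d (b 10<|b 3<|b 1 (a 2<|a 2<|a 2<|a 0<|a 2<|c))<|d (b 10<|b 0<|b 2 (a 2<|a 1<|a 1<|a 0<|a 1<|c))<|d (b 10<|b 1<|b 3 (a 2<|
 a 2<|a 1<|a 1<|a 0<|c))<|d (b 11<|b 3<|b 1 (a 2<|a 2<|a 2<|a 2<|a 0<|c))<|d (b 11<|b 0<|b 2 (a 2<|a 1<|a 1<|a 0<|a 0<|c))<|d (b 11<|b 0<|b 2 (a 1<|a 1<|a 2<|a 2<|a 0<|c))<|d (b 12<|
 b 1<|b 3 (a 1<|a 2<|a 2<|a 2<|a 2<|c))<|e);
 (d (b 7<|b 1<|b 3 (a 2<|a 2<|a 0<|a 2<|a 2<|c))<|d (b 8<|b 3<|b 1 (a 0<|a 2<|a 0<|a 0<|a 2<|c))<|d (b 8<|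
 b 0<|b 2 (a 1<|a 0<|a 1<|a 1<|a 1<|c))<|d (b 8<|b 1<|b 3 (a 2<|a 0<|a 0<|a 1<|a 0<|c))<|d (b 9<|b 3<|b 1 (a 1<|a 2<|a 2<|a 1<|a 1<|c))<|d (b 9<|b 0<|b 2 (a 0<|a 1<|a 2<|a 2<|
 a 0<|c))<|d (b 9<|b 1<|b 3 (a 2<|a 0<|a 0<|a 1<|a 1<|c))<|e));
 (let e:=(d (b 4<|b 1<|b 3 (a 1<|a 2<|a 2<|a 0<|a 0<|c))<|d (b 4<|b 0<|b 2 (a 2<|a 1<|
 a 2<|a 1<|a 2<|c))<|d (b 5<|b 3<|b 1 (a 1<|a 1<|a 1<|a 1<|a 1<|c))<|d (b 5<|b 0<|b 2 (a 0<|a 1<|a 0<|a 0<|a 0<|c))<|d (b 6<|b 1<|b 3 (a 1<|a 0<|a 0<|a 0<|a 2<|c))<|d (b 6<|b 0<|b 2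
 (a 2<|a 0<|a 1<|a 2<|a 2<|c))<|d (b 7<|b 3<|b 1 (a 2<|a 0<|a 2<|a 2<|a 2<|c))<|e);
 (a (b 0<|
 b 0<|b 2 (a 2<|a 2<|a 0<|a 0<|a 0<|c))<|a (b 1<|b 1<|b 3 (a 2<|a 2<|a 1<|a 0<|a 0<|c))<|a (b 2<|b 3<|b 1 (a 1<|a 1<|a 0<|a 2<|a 1<|c))<|a (b 2<|b 1<|b 3 (a 2<|a 2<|a 0<|a 2<|
 a 0<|c))<|a (b 3<|b 3<|b 1 (a 1<|a 2<|a 0<|a 2<|a 0<|c))<|a (b 3<|b 0<|b 2 (a 1<|a 2<|a 2<|a 1<|a 2<|c))<|e))))))<|c))

set_option Elab.async false in
theorem hXr : (List.range 5).all (fun i => eqb (Wd.rep (X.getD i []) 3) []) = true := by (rewrite [show @Cfsg.Agent.H489.Cyc.SuzG.eqb = delta% @Cfsg.Agent.H489.Cyc.SuzG.eqb from by delta Cfsg.Agent.H489.Cyc.SuzG.eqb; rfl, show @Cfsg.Agent.OddHalf.Table.SuzRep.ev = delta% @Cfsg.Agent.OddHalf.Table.SuzRep.ev from by delta Cfsg.Agent.OddHalf.Table.SuzRep.ev; rfl, Cfsg.Agent.Lib.PermNetFast.ptWord_fast]; decide +kernel)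

set_option Elab.async false in
theorem hXc : (List.range 5).all (fun i => (List.range i).all fun j =>
    eqb (X.getD i [] ++ X.getD j []) (X.getD j [] ++ X.getD i [])) = true := by (rewrite [show @Cfsg.Agent.H489.Cyc.SuzG.eqb = delta% @Cfsg.Agent.H489.Cyc.SuzG.eqb from by delta Cfsg.Agent.H489.Cyc.SuzG.eqb; rfl, show @Cfsg.Agent.OddHalf.Table.SuzRep.ev = delta% @Cfsg.Agent.OddHalf.Table.SuzRep.ev from by delta Cfsg.Agent.OddHalf.Table.SuzRep.ev; rfl, Cfsg.Agent.Lib.PermNetFast.ptWord_fast]; decide +kernel)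

set_option Elab.async false in
theorem hA : (List.range 2).all (fun k => (List.range 5).all fun i =>
    eqb (G.getD k [] ++ X.getD i []) (Wd.pvW X 0 ((B.getD k []).getD i []) ++ G.getD k [])) = true := by (rewrite [show @Cfsg.Agent.H489.Cyc.SuzG.eqb = delta% @Cfsg.Agent.H489.Cyc.SuzG.eqb from by delta Cfsg.Agent.H489.Cyc.SuzG.eqb; rfl, show @Cfsg.Agent.OddHalf.Table.SuzRep.ev = delta% @Cfsg.Agent.OddHalf.Table.SuzRep.ev from by delta Cfsg.Agent.OddHalf.Table.SuzRep.ev; rfl, Cfsg.Agent.Lib.PermNetFast.ptWord_fast]; decide +kernel)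

private theorem _root_.Cfsg.Agent.KOa3fce55.e0.{ku, kv} {α : Type kv} {M : List α → Sort ku} (φ : ∀ l, M l) {z : M List.nil} {s : ∀ a l, M l → M (List.cons a l)} (h0 : φ List.nil = z) (hs : ∀ a l, φ (List.cons a l) = s a l (φ l)) (l : List α) : φ l = @List.rec α M z s l := List.rec h0 (fun a l ih => (hs a l).trans (congrArg (s a l) ih)) l
private noncomputable def _root_.Cfsg.Agent.KOa3fce55.k1.{ku0} : type_of% @List.all.{ku0} := @(fun x0 x1 x2 => @List.rec.{(ku0+1), ku0} @x0 @(fun x3 => (@x0 → @Bool) → @Bool) @(fun x3 => @Bool.true) @(fun x3 x4 x5 x6 => @Bool.rec.{1} @(fun x7 => @Bool) @Bool.false (@x5 @x6) (@x6 @x3)) @x1 @x2)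
private theorem _root_.Cfsg.Agent.KOa3fce55.e1.{ku0} : @List.all.{ku0} = @_root_.Cfsg.Agent.KOa3fce55.k1.{ku0} := by delta _root_.Cfsg.Agent.KOa3fce55.k1; funext a0 a1 a2; refine (congrFun (_root_.Cfsg.Agent.KOa3fce55.e0 (fun a1 a2 => @List.all.{ku0} a0 a1 a2) ?_ (fun c0 c1 => ?_) a1) a2 :) <;> (rfl')
private theorem _root_.Cfsg.Agent.KOa3fce55.e2.{ku} {M : Nat → Sort ku} (φ : ∀ n, M n) {z : M Nat.zero} {s : ∀ n, M n → M (Nat.succ n)} (h0 : φ Nat.zero = z) (hs : ∀ n, φ (Nat.succ n) = s n (φ n)) (n : Nat) : φ n = @Nat.rec M z s n := Nat.rec h0 (fun n ih => (hs n).trans (congrArg (s n) ih)) n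
private noncomputable def _root_.Cfsg.Agent.KOa3fce55.k3 : type_of% @List.range.loop := @(fun x0 x1 => @Nat.rec.{1} @(fun x2 => (@List.{0} ℕ) → @List.{0} ℕ) @(fun x2 => @x2) @(fun x2 x3 x4 => @x3 (@x2 :: @x4)) @x0 @x1)
private theorem _root_.Cfsg.Agent.KOa3fce55.e3 : @List.range.loop = @_root_.Cfsg.Agent.KOa3fce55.k3 := by delta _root_.Cfsg.Agent.KOa3fce55.k3; funext a0 a1; refine (congrFun (_root_.Cfsg.Agent.KOa3fce55.e2 (fun a0 a1 => @List.range.loop a0 a1) ?_ (fun c0 => ?_) a0) a1 :) <;> (rfl')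
private noncomputable def _root_.Cfsg.Agent.KOa3fce55.k25.{ku0} : type_of% @List.get?Internal.{ku0} := @(fun x0 x1 x2 => @List.rec.{(ku0+1), ku0} @x0 @(fun x3 => ℕ → @Option.{ku0} @x0) @(fun x3 => @Option.none.{ku0} _) @(fun x3 x4 x5 x6 => @Nat.rec.{(ku0+1)} @(fun x7 => @Option.{ku0} @x0) (@Option.some.{ku0} _ @x3) @(fun x7 x8 => @x5 @x7) @x6) @x1 @x2)
private theorem _root_.Cfsg.Agent.KOa3fce55.e25.{ku0} : @List.get?Internal.{ku0} = @_root_.Cfsg.Agent.KOa3fce55.k25.{ku0} := by delta _root_.Cfsg.Agent.KOa3fce55.k25; funext a0 a1 a2; refine (congrFun (_root_.Cfsg.Agent.KOa3fce55.e0 (fun a1 a2 => @List.get?Internal.{ku0} a0 a1 a2) ?_ (fun c0 c1 => ?_) a1) a2 :) <;> [(funext b0; (rfl')); (funext b0; (cases b0 with | @zero  => (rfl') | @succ b0_0 => (rfl')))]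
private noncomputable def _root_.Cfsg.Agent.KOa3fce55.k27.{ku0} : type_of% @List.append.{ku0} := @(fun x0 x1 x2 => @List.rec.{(ku0+1), ku0} @x0 @(fun x3 => (@List.{ku0} @x0) → @List.{ku0} @x0) @(fun x3 => @x3) @(fun x3 x4 x5 x6 => @x3 :: (@x5 @x6)) @x1 @x2)
private theorem _root_.Cfsg.Agent.KOa3fce55.e27.{ku0} : @List.append.{ku0} = @_root_.Cfsg.Agent.KOa3fce55.k27.{ku0} := by delta _root_.Cfsg.Agent.KOa3fce55.k27; funext a0 a1 a2; refine (congrFun (_root_.Cfsg.Agent.KOa3fce55.e0 (fun a1 a2 => @List.append.{ku0} a0 a1 a2) ?_ (fun c0 c1 => ?_) a1) a2 :) <;> (rfl')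
private noncomputable def _root_.Cfsg.Agent.KOa3fce55.k30.{ku0} : type_of% @List.flatten.{ku0} := @(fun x0 x1 => @List.rec.{(ku0+1), ku0} (@List.{ku0} @x0) @(fun x2 => @List.{ku0} @x0) [] @(fun x2 x3 x4 => @Cfsg.Agent.KOa3fce55.k27.{ku0} _ @x2 @x4) @x1)
private theorem _root_.Cfsg.Agent.KOa3fce55.e30.{ku0} : @List.flatten.{ku0} = @_root_.Cfsg.Agent.KOa3fce55.k30.{ku0} := by delta _root_.Cfsg.Agent.KOa3fce55.k30; rewrite [← Cfsg.Agent.KOa3fce55.e27.{ku0}]; funext a0 a1; refine (_root_.Cfsg.Agent.KOa3fce55.e0 (fun a1 => @List.flatten.{ku0} a0 a1) ?_ (fun c0 c1 => ?_) a1 :) <;> (rfl')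
private noncomputable def _root_.Cfsg.Agent.KOa3fce55.k31.{ku0, ku1} : type_of% @List.map.{ku0, ku1} := @(fun x0 x1 x2 x3 => @List.rec.{(ku1+1), ku0} @x0 @(fun x4 => @List.{ku1} @x1) [] @(fun x4 x5 x6 => (@x2 @x4) :: @x6) @x3)
private theorem _root_.Cfsg.Agent.KOa3fce55.e31.{ku0, ku1} : @List.map.{ku0, ku1} = @_root_.Cfsg.Agent.KOa3fce55.k31.{ku0, ku1} := by delta _root_.Cfsg.Agent.KOa3fce55.k31; funext a0 a1 a2 a3; refine (_root_.Cfsg.Agent.KOa3fce55.e0 (fun a3 => @List.map.{ku0, ku1} a0 a1 a2 a3) ?_ (fun c0 c1 => ?_) a3 :) <;> (rfl')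
private noncomputable def _root_.Cfsg.Agent.KOa3fce55.k32 : (by first | exact type_of% @Cfsg.Agent.H921.Spor.vecs | exact Unit : Sort _) := by first | (refine @Subtype.val _ (fun g => @Cfsg.Agent.H921.Spor.vecs = @g) (@Subtype.mk _ _ (@(fun x0 x1 => @Nat.rec.{1} @(fun x2 => @List.{0} (@List.{0} ℕ)) ([] :: []) @(fun x2 x3 => @Cfsg.Agent.KOa3fce55.k30.{0} _ (@Cfsg.Agent.KOa3fce55.k31.{0, 0} _ _ @(fun x4 => @Cfsg.Agent.KOa3fce55.k31.{0, 0} _ _ @(fun x5 => @x4 :: @x5) @x3) (@Cfsg.Agent.KOa3fce55.k3 @x0 []))) @x1)) ?_); rewrite [← Cfsg.Agent.KOa3fce55.e3, ← Cfsg.Agent.KOa3fce55.e31.{0, 0}, ← Cfsg.Agent.KOa3fce55.e30.{0}]; funext a0 a1; refine (_root_.Cfsg.Agent.KOa3fce55.e2 (fun a1 => @Cfsg.Agent.H921.Spor.vecs a0 a1) ?_ (fun c0 => ?_) a1 :) <;> (rfl')) | exact @Cfsg.Agent.H921.Spor.vecs | exact ()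
private theorem _root_.Cfsg.Agent.KOa3fce55.e32 : (by first | exact @Cfsg.Agent.H921.Spor.vecs = @_root_.Cfsg.Agent.KOa3fce55.k32 | exact True : Prop) := by first | (delta _root_.Cfsg.Agent.KOa3fce55.k32; exact @Subtype.property _ (fun g => @Cfsg.Agent.H921.Spor.vecs = @g) _) | rfl | trivial
private noncomputable def _root_.Cfsg.Agent.KOa3fce55.k33.{ku0} : type_of% @List.any.{ku0} := @(fun x0 x1 x2 => @List.rec.{(ku0+1), ku0} @x0 @(fun x3 => (@x0 → @Bool) → @Bool) @(fun x3 => @Bool.false) @(fun x3 x4 x5 x6 => @Bool.rec.{1} @(fun x7 => @Bool) (@x5 @x6) @Bool.true (@x6 @x3)) @x1 @x2)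
private theorem _root_.Cfsg.Agent.KOa3fce55.e33.{ku0} : @List.any.{ku0} = @_root_.Cfsg.Agent.KOa3fce55.k33.{ku0} := by delta _root_.Cfsg.Agent.KOa3fce55.k33; funext a0 a1 a2; refine (congrFun (_root_.Cfsg.Agent.KOa3fce55.e0 (fun a1 a2 => @List.any.{ku0} a0 a1 a2) ?_ (fun c0 c1 => ?_) a1) a2 :) <;> (rfl')
private noncomputable def _root_.Cfsg.Agent.KOa3fce55.k34 : (by first | exact type_of% @Cfsg.Agent.H489.Cyc.treeV | exact Unit : Sort _) := by first | (refine @Subtype.val _ (fun g => @Cfsg.Agent.H489.Cyc.treeV = @g) (@Subtype.mk _ _ (@(fun x0 x1 => @x0 :: (@Cfsg.Agent.KOa3fce55.k31.{0, 0} _ _ @(fun x2 => @Prod.snd.{0, 0} _ _ (@Prod.snd.{0, 0} _ _ (@Prod.snd.{0, 0} _ _ @x2))) @x1))) ?_); rewrite [← Cfsg.Agent.KOa3fce55.e31.{0, 0}]; rfl') | exact @Cfsg.Agent.H489.Cyc.treeV | exact ()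
private theorem _root_.Cfsg.Agent.KOa3fce55.e34 : (by first | exact @Cfsg.Agent.H489.Cyc.treeV = @_root_.Cfsg.Agent.KOa3fce55.k34 | exact True : Prop) := by first | (delta _root_.Cfsg.Agent.KOa3fce55.k34; exact @Subtype.property _ (fun g => @Cfsg.Agent.H489.Cyc.treeV = @g) _) | rfl | trivial
private noncomputable def _root_.Cfsg.Agent.KOa3fce55.k36 : (by first | exact type_of% @Cfsg.Agent.H489.Cyc.veq | exact Unit : Sort _) := by first | (refine @Subtype.val _ (fun g => @Cfsg.Agent.H489.Cyc.veq = @g) (@Subtype.mk _ _ (@(fun (x0 : @List.{0} @Nat) (x1 : @List.{0} @Nat) => @List.rec.{1, 0} @Nat @(fun (x2 : @List.{0} @Nat) => ((@List.{0} @Nat) → @Bool)) @(fun (x2 : @List.{0} @Nat) => @List.rec.{1, 0} @Nat @(fun (x3 : @List.{0} @Nat) => (((@Nat.hasNotBit (nat_lit 1) (@List.ctorIdx.{0} @Nat @x3)) → @Bool) → @Bool)) @(fun (x3 : ((@Nat.hasNotBit (nat_lit 1) (@List.ctorIdx.{0}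 @Nat (@List.nil.{0} @Nat))) → @Bool)) => @Bool.true) @(fun (x3 : @Nat) (x4 : @List.{0} @Nat) (x5 : (((@Nat.hasNotBit (nat_lit 1) (@List.ctorIdx.{0} @Nat @x4)) → @Bool) → @Bool)) (x6 : ((@Nat.hasNotBit (nat_lit 1) (@List.ctorIdx.{0} @Nat (@List.cons.{0} @Nat @x3 @x4))) → @Bool)) => @x6 (@Nat.ne_of_beq_eq_false (@Nat.land (@OfNat.ofNat.{0} @Nat (nat_lit 1) (@instOfNatNat (nat_lit 1))) (@Nat.shiftRight (nat_lit 1) (nat_lit 1))) (@OfNat.ofNat.{0} @Nat (nat_lit 1) (@instOfNatNat (nat_lit 1))) (@Eq.refl.{1} @Bool @Bool.false))) @x2 @(fun (x3 : @Nat.hasNotBit (nat_lit 1) (@List.ctorIdx.{0} @Nat @x2)) => @Bool.false)) @(fun (x2 : @Nat) (x3 : @List.{0} @Nat) (x4 : ((@List.{0} @Nat) → @Bool)) (x5 : @List.{0} @Nat) => @List.rec.{1, 0} @Nat @(fun (x6 : @List.{0} @Nat) => (((@Nat.hasNotBit (nat_lit 2) (@List.ctorIdx.{0} @Nat @x6)) → @Bool) → @Bool)) @(fun (x6 : ((@Nat.hasNotBit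 (nat_lit 2) (@List.ctorIdx.{0} @Nat (@List.nil.{0} @Nat))) → @Bool)) => @x6 (@Nat.ne_of_beq_eq_false (@Nat.land (@OfNat.ofNat.{0} @Nat (nat_lit 1) (@instOfNatNat (nat_lit 1))) (@Nat.shiftRight (nat_lit 2) (nat_lit 0))) (@OfNat.ofNat.{0} @Nat (nat_lit 1) (@instOfNatNat (nat_lit 1))) (@Eq.refl.{1} @Bool @Bool.false))) @(fun (x6 : @Nat) (x7 : @List.{0} @Nat) (x8 : (((@Nat.hasNotBit (nat_lit 2) (@List.ctorIdx.{0} @Nat @x7)) → @Bool) → @Bool)) (x9 : ((@Nat.hasNotBit (nat_lit 2) (@List.ctorIdx.{0} @Nat (@List.cons.{0} @Nat @x6 @x7))) → @Bool)) => @Bool.rec.{1} @(fun (x10 : @Bool) => @Bool) @Bool.false (@x4 @x7) (@Nat.beq @x2 @x6)) @x5 @(fun (x6 : @Nat.hasNotBit (nat_lit 2) (@List.ctorIdx.{0} @Nat @x5)) => @Bool.false)) @x0 @x1)) ?_); funext a0 a1; refine (congrFun (_root_.Cfsg.Agent.KOa3fce55.e0 (fun a0 a1 => @Cfsg.Agent.H489.Cyc.veq a0 a1) ?_ (fun c0 c1 => ?_) a0)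 a1 :) <;> [(funext b0; (cases b0 with | @nil  => (rfl') | @cons b0_0 b0_1 => (rfl'))); (funext b0; (cases b0 with | @nil  => (rfl') | @cons b0_0 b0_1 => (rfl')))]) | exact @Cfsg.Agent.H489.Cyc.veq | exact ()
private theorem _root_.Cfsg.Agent.KOa3fce55.e36 : (by first | exact @Cfsg.Agent.H489.Cyc.veq = @_root_.Cfsg.Agent.KOa3fce55.k36 | exact True : Prop) := by first | (delta _root_.Cfsg.Agent.KOa3fce55.k36; exact @Subtype.property _ (fun g => @Cfsg.Agent.H489.Cyc.veq = @g) _) | rfl | trivial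
private noncomputable def _root_.Cfsg.Agent.KOa3fce55.k38 : (by first | exact type_of% @Cfsg.Agent.H921.Spor.dot | exact Unit : Sort _) := by first | (refine @Subtype.val _ (fun g => @Cfsg.Agent.H921.Spor.dot = @g) (@Subtype.mk _ _ (@(fun x0 x1 => @List.rec.{1, 0} ℕ @(fun x2 => (@List.{0} ℕ) → ℕ) @(fun x2 => nat_lit 0) @(fun x2 x3 x4 x5 => @List.rec.{1, 0} ℕ @(fun x6 => ((@Nat.hasNotBit (nat_lit 2) (@List.ctorIdx.{0} _ @x6)) → ℕ) → ℕ) @(fun x6 => @x6 (@Nat.ne_of_beq_eq_false _ _ (@Eq.refl.{1} _ @Bool.false))) @(fun x6 x7 x8 x9 => @Nat.add (@Nat.mul @x2 @x6) (@x4 @x7)) @x5 @(fun x6 => nat_lit 0)) @x0 @x1)) ?_); funext a0 a1; refine (congrFun (_root_.Cfsg.Agent.KOa3fce55.e0 (fun a0 a1 => @Cfsg.Agent.H921.Spor.dot a0 a1) ?_ (fun c0 c1 => ?_) a0) a1 :) <;> [(funext b0; (rfl')); (funext b0; (cases b0 with | @nil  => (rfl') | @cons b0_0 b0_1 => (rfl')))]) | exact @Cfsg.Agent.H921.Spor.dot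 | exact ()
private theorem _root_.Cfsg.Agent.KOa3fce55.e38 : (by first | exact @Cfsg.Agent.H921.Spor.dot = @_root_.Cfsg.Agent.KOa3fce55.k38 | exact True : Prop) := by first | (delta _root_.Cfsg.Agent.KOa3fce55.k38; exact @Subtype.property _ (fun g => @Cfsg.Agent.H921.Spor.dot = @g) _) | rfl | trivial
private noncomputable def _root_.Cfsg.Agent.KOa3fce55.k39.{ku0} : type_of% @List.length.{ku0} := @(fun x0 x1 => @List.rec.{1, ku0} @x0 @(fun x2 => ℕ) (nat_lit 0) @(fun x2 x3 x4 => @Nat.add @x4 (nat_lit 1)) @x1)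
private theorem _root_.Cfsg.Agent.KOa3fce55.e39.{ku0} : @List.length.{ku0} = @_root_.Cfsg.Agent.KOa3fce55.k39.{ku0} := by delta _root_.Cfsg.Agent.KOa3fce55.k39; funext a0 a1; refine (_root_.Cfsg.Agent.KOa3fce55.e0 (fun a1 => @List.length.{ku0} a0 a1) ?_ (fun c0 c1 => ?_) a1 :) <;> (rfl')
private noncomputable def _root_.Cfsg.Agent.KOa3fce55.k40 : (by first | exact type_of% @Cfsg.Agent.H489.Cyc.nodupV | exact Unit : Sort _) := by first | (refine @Subtype.val _ (fun g => @Cfsg.Agent.H489.Cyc.nodupV = @g) (@Subtype.mk _ _ (@(fun x0 => @List.rec.{1, 0} (@List.{0} ℕ) @(fun x1 => @Bool) @Bool.true @(fun x1 x2 x3 => @Bool.rec.{1} @(fun x4 => @Bool) @Bool.false @x3 (@Bool.rec.{1} @(fun x4 => @Bool) @Bool.true @Bool.false (@Cfsg.Agent.KOa3fce55.k33.{0} _ @x2 @(fun x4 => @Cfsg.Agent.KOa3fce55.k36 @x4 @x1)))) @x0)) ?_); rewrite [← Cfsg.Agent.KOa3fce55.e36, ← Cfsg.Agent.KOa3fce55.e33.{0}];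 funext a0; refine (_root_.Cfsg.Agent.KOa3fce55.e0 (fun a0 => @Cfsg.Agent.H489.Cyc.nodupV a0) ?_ (fun c0 c1 => ?_) a0 :) <;> ((try delta Cfsg.Agent.H489.Cyc.nodupV Cfsg.Agent.H489.Cyc.nodupV._f Cfsg.Agent.H489.Cyc.vmem); (try generalize @Cfsg.Agent.H489.Cyc.veq = g0); rfl')) | exact @Cfsg.Agent.H489.Cyc.nodupV | exact ()
private theorem _root_.Cfsg.Agent.KOa3fce55.e40 : (by first | exact @Cfsg.Agent.H489.Cyc.nodupV = @_root_.Cfsg.Agent.KOa3fce55.k40 | exact True : Prop) := by first | (delta _root_.Cfsg.Agent.KOa3fce55.k40; exact @Subtype.property _ (fun g => @Cfsg.Agent.H489.Cyc.nodupV = @g) _) | rfl | trivial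
private noncomputable def _root_.Cfsg.Agent.KOa3fce55.k41 : (by first | exact type_of% @Cfsg.Agent.H489.Cyc.stp | exact Unit : Sort _) := by first | (refine @Subtype.val _ (fun g => @Cfsg.Agent.H489.Cyc.stp = @g) (@Subtype.mk _ _ (@(fun x0 x1 x2 => @Cfsg.Agent.KOa3fce55.k31.{0, 0} _ _ @(fun x3 => @Nat.mod (@Cfsg.Agent.KOa3fce55.k38 @x2 @x3) @x0) @x1)) ?_); rewrite [← Cfsg.Agent.KOa3fce55.e38, ← Cfsg.Agent.KOa3fce55.e31.{0, 0}]; (try delta Cfsg.Agent.H489.Cyc.stp); (try generalize @Cfsg.Agent.H921.Spor.dot = g0); rfl') | exact @Cfsg.Agent.H489.Cyc.stp | exact ()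
private theorem _root_.Cfsg.Agent.KOa3fce55.e41 : (by first | exact @Cfsg.Agent.H489.Cyc.stp = @_root_.Cfsg.Agent.KOa3fce55.k41 | exact True : Prop) := by first | (delta _root_.Cfsg.Agent.KOa3fce55.k41; exact @Subtype.property _ (fun g => @Cfsg.Agent.H489.Cyc.stp = @g) _) | rfl | trivial
private noncomputable def _root_.Cfsg.Agent.KOa3fce55.k42 : (by first | exact type_of% @Cfsg.Agent.H489.Cyc.chkT | exact Unit : Sort _) := by first | (refine @Subtype.val _ (fun g => @Cfsg.Agent.H489.Cyc.chkT = @g) (@Subtype.mk _ _ (@(fun x0 x1 x2 x3 => @List.rec.{1, 0} (ℕ × (ℕ × (ℕ × (@List.{0} ℕ)))) @(fun x4 => (@List.{0} (@List.{0} ℕ)) → @Bool) @(fun x4 => @Bool.true) @(fun x4 x5 x6 x7 => @Prod.rec.{1, 0, 0} ℕ (ℕ × (ℕ × (@List.{0} ℕ))) @(fun x8 => @Bool) @(fun x8 x9 => @Prod.rec.{1, 0, 0} ℕ (ℕ × (@List.{0} ℕ)) @(fun x10 => @Bool) @(fun x10 x11 => @Prod.rec.{1, 0, 0} ℕ (@List.{0}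 ℕ) @(fun x12 => @Bool) @(fun x12 x13 => @Bool.rec.{1} @(fun x14 => @Bool) @Bool.false (@x6 (@x13 :: @x7)) (@Bool.rec.{1} @(fun x14 => @Bool) @Bool.false (@Cfsg.Agent.KOa3fce55.k36 (@Cfsg.Agent.KOa3fce55.k41 @x0 (@Option.rec.{1, 0} (@List.{0} (@List.{0} ℕ)) @(fun x14 => @List.{0} (@List.{0} ℕ)) [] @(fun x14 => @x14) (@Cfsg.Agent.KOa3fce55.k25.{0} _ @x1 @x12)) @x13) (@Option.rec.{1, 0} (@List.{0} ℕ) @(fun x14 => @List.{0} ℕ) [] @(fun x14 => @x14) (@Cfsg.Agent.KOa3fce55.k25.{0} _ @x7 @x8))) (@Bool.rec.{1} @(fun x14 => @Bool) @Bool.false (@Cfsg.Agent.KOa3fce55.k36 (@Cfsg.Agent.KOa3fce55.k41 @x0 (@Option.rec.{1, 0} (@List.{0} (@List.{0} ℕ)) @(fun x14 => @List.{0} (@List.{0} ℕ)) [] @(fun x14 => @x14) (@Cfsg.Agent.KOa3fce55.k25.{0} _ @x1 @x10)) (@Option.rec.{1, 0} (@List.{0} ℕ) @(fun x14 => @List.{0} ℕ) [] @(fun x14 => @x14) (@Cfsg.Agent.KOa3fce55.k25.{0} _ @x7 @x8)))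 @x13) (@Bool.rec.{1} @(fun x14 => @Bool) @Bool.false (@Nat.ble (@Nat.succ @x12) (@Cfsg.Agent.KOa3fce55.k39.{0} _ @x1)) (@Bool.rec.{1} @(fun x14 => @Bool) @Bool.false (@Nat.ble (@Nat.succ @x10) (@Cfsg.Agent.KOa3fce55.k39.{0} _ @x1)) (@Nat.ble (@Nat.succ @x8) (@Cfsg.Agent.KOa3fce55.k39.{0} _ @x7))))))) @x11) @x9) @x4) @x3 @x2)) ?_); rewrite [← Cfsg.Agent.KOa3fce55.e39.{0}, ← Cfsg.Agent.KOa3fce55.e25.{0}, ← Cfsg.Agent.KOa3fce55.e41, ← Cfsg.Agent.KOa3fce55.e36]; funext a0 a1 a2 a3; refine (congrFun (_root_.Cfsg.Agent.KOa3fce55.e0 (fun a3 a2 => @Cfsg.Agent.H489.Cyc.chkT a0 a1 a2 a3) ?_ (fun c0 c1 => ?_) a3) a2 :) <;> ((try delta Cfsg.Agent.H489.Cyc.chkT Cfsg.Agent.H489.Cyc.chkT._f); (try generalize @Cfsg.Agent.H489.Cyc.veq = g0); (try generalize @Cfsg.Agent.H489.Cyc.stp = g1); rfl')) | exact @Cfsg.Agent.H489.Cyc.chkT | exact ()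
private theorem _root_.Cfsg.Agent.KOa3fce55.e42 : (by first | exact @Cfsg.Agent.H489.Cyc.chkT = @_root_.Cfsg.Agent.KOa3fce55.k42 | exact True : Prop) := by first | (delta _root_.Cfsg.Agent.KOa3fce55.k42; exact @Subtype.property _ (fun g => @Cfsg.Agent.H489.Cyc.chkT = @g) _) | rfl | trivial
private noncomputable def _root_.Cfsg.Agent.KOa3fce55.k43 : (by first | exact type_of% @Cfsg.Agent.H489.Cyc.chkO | exact Unit : Sort _) := by first | (refine @Subtype.val _ (fun g => @Cfsg.Agent.H489.Cyc.chkO = @g) (@Subtype.mk _ _ (@(fun x0 x1 x2 x3 x4 x5 => @Bool.rec.{1} @(fun x6 => @Bool) @Bool.false (@Cfsg.Agent.KOa3fce55.k1.{0} _ (@Cfsg.Agent.KOa3fce55.k32 @x0 @x1) @(fun x6 => @Bool.rec.{1} @(fun x7 => @Bool) (@Cfsg.Agent.KOa3fce55.k33.{0} _ @x5 @(fun x7 => @Cfsg.Agent.KOa3fce55.k33.{0} _ (@Cfsg.Agent.KOa3fce55.k34 (@Prod.fst.{0, 0} _ _ @x7) (@Prod.snd.{0, 0} _ _ @x7))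 @(fun x8 => @Cfsg.Agent.KOa3fce55.k36 @x8 @x6))) @Bool.true (@Nat.beq (@Nat.mod (@Cfsg.Agent.KOa3fce55.k38 @x6 @x4) @x0) (nat_lit 0)))) (@Cfsg.Agent.KOa3fce55.k1.{0} _ @x5 @(fun x6 => @Bool.rec.{1} @(fun x7 => @Bool) @Bool.false (@Nat.ble @x2 (@Nat.add (@Cfsg.Agent.KOa3fce55.k39.{0} _ (@Prod.snd.{0, 0} _ _ @x6)) (nat_lit 1))) (@Bool.rec.{1} @(fun x7 => @Bool) @Bool.false (@Cfsg.Agent.KOa3fce55.k40 (@Cfsg.Agent.KOa3fce55.k34 (@Prod.fst.{0, 0} _ _ @x6) (@Prod.snd.{0, 0} _ _ @x6))) (@Cfsg.Agent.KOa3fce55.k42 @x0 @x3 ((@Prod.fst.{0, 0} _ _ @x6) :: []) (@Prod.snd.{0, 0} _ _ @x6))))))) ?_); rewrite [← Cfsg.Agent.KOa3fce55.e42, ← Cfsg.Agent.KOa3fce55.e40, ← Cfsg.Agent.KOa3fce55.e39.{0}, ← Cfsg.Agent.KOa3fce55.e38, ← Cfsg.Agent.KOa3fce55.e36, ← Cfsg.Agent.KOa3fce55.e34, ← Cfsg.Agent.KOa3fce55.e33.{0}, ← Cfsg.Agent.KOa3fce55.e32, ← Cfsg.Agent.KOa3fce55.e1.{0}]; (try delta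 Cfsg.Agent.H489.Cyc.chkO Cfsg.Agent.H489.Cyc.vmem); (try generalize @Cfsg.Agent.H921.Spor.vecs = g0); (try generalize @Cfsg.Agent.H489.Cyc.treeV = g1); (try generalize @Cfsg.Agent.H489.Cyc.veq = g2); (try generalize @Cfsg.Agent.H921.Spor.dot = g3); (try generalize @Cfsg.Agent.H489.Cyc.nodupV = g4); (try generalize @Cfsg.Agent.H489.Cyc.chkT = g5); rfl') | exact @Cfsg.Agent.H489.Cyc.chkO | exact ()
private theorem _root_.Cfsg.Agent.KOa3fce55.e43 : (by first | exact @Cfsg.Agent.H489.Cyc.chkO = @_root_.Cfsg.Agent.KOa3fce55.k43 | exact True : Prop) := by first | (delta _root_.Cfsg.Agent.KOa3fce55.k43; exact @Subtype.property _ (fun g => @Cfsg.Agent.H489.Cyc.chkO = @g) _) | rfl | trivial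

theorem hO : chkO 3 5 110 (B ++ Bi) [1, 0, 0, 0, 0] Ls = true := by (first | (rewrite [Cfsg.Agent.KOa3fce55.e43]; decide +kernel) | decide +kernel)

theorem hne : ((List.range 8).any fun i => !(Nat.beq (SuzRep.ev (Wd.pvW X 0 [1, 0, 0, 0, 0]) i) (SuzRep.ev [] i))) =
    true := by decide +kernel

theorem orb : Orb 3 110 Cfsg.Spor.Suz := by
  refine orb_bfs wd (r := 3) (d := 5) (X := X) (G := G) (B := B) (Bi := Bi) (c₀ := [1, 0, 0, 0, 0]) (Ls := Ls)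
    (by norm_num) (by norm_num) rfl ?_ ?_ hne (by decide +kernel) ?_ (by decide +kernel) hO
  · intro i hi
    exact List.all_eq_true.1 hXr i (List.mem_range.2 hi)
  · intro i hi j hj
    exact List.all_eq_true.1 (List.all_eq_true.1 hXc i (List.mem_range.2 hi)) j (List.mem_range.2 hj)
  · intro k hk i hi
    exact List.all_eq_true.1 (List.all_eq_true.1 hA k (List.mem_range.2 hk)) i (List.mem_range.2 hi)

end Cfsg.Agent.H489.Cyc.SuzG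
end
end

-- part: H872/TD4/Inst
section
set_option linter.all false
open scoped Cfsg.Agent.FastGrp

-- part: H872/TD4/Hex
section
/-!
# TEAM TWOCYC (S3507), row `³D₄(2)`: the extraspecial subgroup from the hexagonal relations (helper872)

`HexPar` over a field `E` with an automorphism `σ` whose fixed field is `{0, 1}`:

* `QQ` : the join of the root groups `X 2, …, X 6`; `nf` : normal forms; `card_QQ` : `|QQ| ≥ 2 |E|² · 4`;
* `large` : `QQ` is extraspecial with centre `⟨x₄(1)⟩`; `index_le` : a subgroup `A` of `QQ` not containing `x₄(1)` has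
  `|QQ : A|² ≥ 2 |QQ|`;
* `x2_mem` : a subgroup `B ≤ QQ` normalised by `X 1`, containing `x₄(1)` and another element, contains `x₂(1)`.
-/

set_option autoImplicit false
set_option linter.unusedSectionVars false

namespace Cfsg.Agent.H872.TD4.Hex

open Cfsg.Agent.SplitTwo Cfsg.Agent.Co2Type.Quad

universe u v

variable {G : Type u} [Group G] {E : Type v} [Field E] {σ : E ≃+* E} {X : ZMod (2 * 6) → Subgroup G}
  {x1 x2 x3 x4 x5 x6 : E → G}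

/-- the data -/
structure HD (σ : E ≃+* E) (X : ZMod (2 * 6) → Subgroup G) (x1 x2 x3 x4 x5 x6 : E → G) : Prop where
  par : HexPar σ X x1 x2 x3 x4 x5 x6
  fix : ∀ a, σ a = a → a = 0 ∨ a = 1
  trc : ∀ b, b ≠ 0 → ∃ s, SplitTwo.trc σ s b = 1
  crs : ∀ b, b ≠ 0 → ∃ s, SplitTwo.crs σ s b ≠ 0

theorem mul_of_kk {a b c : G} (h : kk a b = c) : a * b = b * a * c := by
  rw [← h]; unfold kk; group

theorem comm_of_kk {a b : G} (h : kk a b = 1) : Commute a b := by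
  have := mul_of_kk h
  rwa [mul_one] at this

namespace HD

variable (H : HD σ X x1 x2 x3 x4 x5 x6)

include H

theorem two : (1 : E) + 1 = 0 := by
  rcases H.fix (1 + 1) (by rw [map_add, map_one]) with h | h
  · exact h
  · exact absurd (add_eq_left.1 h) one_ne_zero

theorem add_self (a : E) : a + a = 0 := by
  have : a + a = a * (1 + 1) := by ring
  rw [this, H.two, mul_zero]

theorem neg_eq (a : E) : -a = a := by
  rw [neg_eq_iff_add_eq_zero]; exact H.add_self a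

theorem σ0 : σ (0 : E) = 0 := map_zero σ
theorem σ1 : σ (1 : E) = 1 := map_one σ

theorem σadd {a b : E} (ha : σ a = a) (hb : σ b = b) : σ (a + b) = a + b := by rw [map_add, ha, hb]

theorem σtrc (a b : E) : σ (SplitTwo.trc σ a b) = SplitTwo.trc σ a b := by
  unfold SplitTwo.trc
  rw [map_add, map_add, H.par.rel.cube]; ring

theorem σnrm (a : E) : σ (SplitTwo.nrm σ a) = SplitTwo.nrm σ a := by
  unfold SplitTwo.nrm
  rw [map_mul, map_mul, H.par.rel.cube]; ring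

theorem x2_zero : x2 0 = 1 := by
  have := H.par.rel.add2 0 0 H.σ0 H.σ0
  rw [add_zero] at this
  exact left_eq_mul.1 this
theorem x3_zero : x3 0 = 1 := by
  have := H.par.rel.add3 0 0
  rw [add_zero] at this
  exact left_eq_mul.1 this
theorem x4_zero : x4 0 = 1 := by
  have := H.par.rel.add4 0 0 H.σ0 H.σ0
  rw [add_zero] at this
  exact left_eq_mul.1 this
theorem x5_zero : x5 0 = 1 := by
  have := H.par.rel.add5 0 0
  rw [add_zero] at this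
  exact left_eq_mul.1 this
theorem x6_zero : x6 0 = 1 := by
  have := H.par.rel.add6 0 0 H.σ0 H.σ0
  rw [add_zero] at this
  exact left_eq_mul.1 this
theorem x1_zero : x1 0 = 1 := by
  have := H.par.rel.add1 0 0
  rw [add_zero] at this
  exact left_eq_mul.1 this

theorem x3_sq (a : E) : x3 a * x3 a = 1 := by rw [← H.par.rel.add3, H.add_self, H.x3_zero]
theorem x4_sq {a : E} (ha : σ a = a) : x4 a * x4 a = 1 := by
  rw [← H.par.rel.add4 a a ha ha, H.add_self, H.x4_zero]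
theorem x5_sq (a : E) : x5 a * x5 a = 1 := by rw [← H.par.rel.add5, H.add_self, H.x5_zero]
theorem x6_sq {a : E} (ha : σ a = a) : x6 a * x6 a = 1 := by
  rw [← H.par.rel.add6 a a ha ha, H.add_self, H.x6_zero]
theorem x1_sq (a : E) : x1 a * x1 a = 1 := by rw [← H.par.rel.add1, H.add_self, H.x1_zero]

theorem z_ne : x4 1 ≠ 1 := by
  rw [← H.x4_zero]
  exact fun h => one_ne_zero (H.par.inj4 1 0 H.σ1 H.σ0 h)

theorem zz : x4 1 * x4 1 = 1 := H.x4_sq H.σ1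

theorem x4_cases {a : E} (ha : σ a = a) : x4 a = 1 ∨ x4 a = x4 1 := by
  rcases H.fix a ha with rfl | rfl
  · exact Or.inl H.x4_zero
  · exact Or.inr rfl

/-! commutation -/

theorem c4 {a b : E} (ha : σ a = a) (hb : σ b = b) : Commute (x4 a) (x4 b) := by
  show x4 a * x4 b = x4 b * x4 a
  rw [← H.par.rel.add4 a b ha hb, ← H.par.rel.add4 b a hb ha, add_comm]
theorem c6 {a b : E} (ha : σ a = a) (hb : σ b = b) : Commute (x6 a) (x6 b) := by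
  show x6 a * x6 b = x6 b * x6 a
  rw [← H.par.rel.add6 a b ha hb, ← H.par.rel.add6 b a hb ha, add_comm]
theorem c23 {t a : E} (ht : σ t = t) : Commute (x2 t) (x3 a) := comm_of_kk (H.par.rel.c23 t a ht)
theorem c24 {t u : E} (ht : σ t = t) (hu : σ u = u) : Commute (x2 t) (x4 u) :=
  comm_of_kk (H.par.rel.c24 t u ht hu)
theorem c25 {t a : E} (ht : σ t = t) : Commute (x2 t) (x5 a) := comm_of_kk (H.par.rel.c25 t a ht)
theorem c34 {a t : E} (ht : σ t = t) : Commute (x3 a) (x4 t) := comm_of_kk (H.par.rel.c34 a t ht)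
theorem c36 {a t : E} (ht : σ t = t) : Commute (x3 a) (x6 t) := comm_of_kk (H.par.rel.c36 a t ht)
theorem c45 {t a : E} (ht : σ t = t) : Commute (x4 t) (x5 a) := comm_of_kk (H.par.rel.c45 t a ht)
theorem c46 {t u : E} (ht : σ t = t) (hu : σ u = u) : Commute (x4 t) (x6 u) :=
  comm_of_kk (H.par.rel.c46 t u ht hu)
theorem c56 {a t : E} (ht : σ t = t) : Commute (x5 a) (x6 t) := comm_of_kk (H.par.rel.c56 a t ht)
theorem c12 {a t : E} (ht : σ t = t) : Commute (x1 a) (x2 t) := comm_of_kk (H.par.rel.c12 a t ht)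
theorem c14 {a t : E} (ht : σ t = t) : Commute (x1 a) (x4 t) := comm_of_kk (H.par.rel.c14 a t ht)

/-- `x₆ x₂ = x₂ x₆ x₄` -/
theorem m62 {t u : E} (ht : σ t = t) (hu : σ u = u) : x6 u * x2 t = x2 t * x6 u * x4 (t * u) := by
  have h1 := mul_of_kk (H.par.rel.c26 t u ht hu)
  have htu : σ (t * u) = t * u := by rw [map_mul, ht, hu]
  rw [h1, mul_assoc, H.x4_sq htu, mul_one]

theorem m53 (a b : E) : x5 b * x3 a = x3 a * x5 b * x4 (SplitTwo.trc σ a b) := by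
  have h1 := mul_of_kk (H.par.rel.c35 a b)
  rw [h1, mul_assoc, H.x4_sq (H.σtrc a b), mul_one]

/-! ### normal forms -/

theorem n2 {a c e t : E} (b d : E) (ha : σ a = a) (hc : σ c = c) (he : σ e = e) (ht : σ t = t) :
    x2 a * x3 b * x4 c * x5 d * x6 e * x2 t = x2 (a + t) * x3 b * x4 (c + t * e) * x5 d * x6 e := by
  have hte : σ (t * e) = t * e := by rw [map_mul, ht, he]
  rw [H.par.rel.add2 a t ha ht, H.par.rel.add4 c _ hc hte]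
  have e1 := H.m62 ht he
  have e2 := (H.c25 (a := d) ht).eq
  have e3 := (H.c24 ht hc).eq
  have e4 := (H.c23 (a := b) ht).eq
  have e5 := (H.c45 (a := d) hte).eq
  have e6 := (H.c46 hte he).eq
  calc x2 a * x3 b * x4 c * x5 d * x6 e * x2 t = x2 a * x3 b * x4 c * x5 d * (x6 e * x2 t) := by group
    _ = x2 a * x3 b * x4 c * (x5 d * x2 t) * x6 e * x4 (t * e) := by rw [e1]; group
    _ = x2 a * x3 b * (x4 c * x2 t) * x5 d * x6 e * x4 (t * e) := by rw [← e2]; group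
    _ = x2 a * (x3 b * x2 t) * x4 c * x5 d * x6 e * x4 (t * e) := by rw [← e3]; group
    _ = x2 a * x2 t * x3 b * x4 c * x5 d * (x6 e * x4 (t * e)) := by rw [← e4]; group
    _ = x2 a * x2 t * x3 b * x4 c * (x5 d * x4 (t * e)) * x6 e := by rw [← e6]; group
    _ = _ := by rw [← e5]; group

theorem n3 {c e : E} (a b d t : E) (hc : σ c = c) (he : σ e = e) :
    x2 a * x3 b * x4 c * x5 d * x6 e * x3 t = x2 a * x3 (b + t) * x4 (c + SplitTwo.trc σ t d) * x5 d * x6 e := by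
  have hte := H.σtrc t d
  rw [H.par.rel.add3, H.par.rel.add4 c _ hc hte]
  have e1 := (H.c36 (a := t) he).eq
  have e2 := H.m53 t d
  have e3 := (H.c34 (a := t) hc).eq
  have e5 := (H.c45 (a := d) hte).eq
  calc x2 a * x3 b * x4 c * x5 d * x6 e * x3 t = x2 a * x3 b * x4 c * x5 d * (x6 e * x3 t) := by group
    _ = x2 a * x3 b * x4 c * (x5 d * x3 t) * x6 e := by rw [← e1]; group
    _ = x2 a * x3 b * (x4 c * x3 t) * (x5 d * x4 (SplitTwo.trc σ t d)) * x6 e := by rw [e2]; group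
    _ = _ := by rw [← e3, ← e5]; group

theorem n4 {c e t : E} (a b d : E) (hc : σ c = c) (he : σ e = e) (ht : σ t = t) :
    x2 a * x3 b * x4 c * x5 d * x6 e * x4 t = x2 a * x3 b * x4 (c + t) * x5 d * x6 e := by
  rw [H.par.rel.add4 c _ hc ht]
  have e1 := (H.c46 ht he).eq
  have e2 := (H.c45 (a := d) ht).eq
  calc x2 a * x3 b * x4 c * x5 d * x6 e * x4 t = x2 a * x3 b * x4 c * x5 d * (x6 e * x4 t) := by group
    _ = x2 a * x3 b * x4 c * (x5 d * x4 t) * x6 e := by rw [← e1]; group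
    _ = _ := by rw [← e2]; group

theorem n5 {e : E} (a b c d t : E) (he : σ e = e) :
    x2 a * x3 b * x4 c * x5 d * x6 e * x5 t = x2 a * x3 b * x4 c * x5 (d + t) * x6 e := by
  rw [H.par.rel.add5]
  have e1 := (H.c56 (a := t) he).eq
  calc x2 a * x3 b * x4 c * x5 d * x6 e * x5 t = x2 a * x3 b * x4 c * x5 d * (x6 e * x5 t) := by group
    _ = _ := by rw [← e1]; group

theorem n6 {e t : E} (a b c d : E) (he : σ e = e) (ht : σ t = t) :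
    x2 a * x3 b * x4 c * x5 d * x6 e * x6 t = x2 a * x3 b * x4 c * x5 d * x6 (e + t) := by
  rw [H.par.rel.add6 e t he ht]
  group

/-- **Multiplication of normal forms.** -/
theorem nmul {a c e a' c' e' : E} (b d b' d' : E) (ha : σ a = a) (hc : σ c = c) (he : σ e = e) (ha' : σ a' = a')
    (hc' : σ c' = c') (he' : σ e' = e') :
    x2 a * x3 b * x4 c * x5 d * x6 e * (x2 a' * x3 b' * x4 c' * x5 d' * x6 e') =
      x2 (a + a') * x3 (b + b') * x4 (c + a' * e + SplitTwo.trc σ b' d + c') * x5 (d + d') * x6 (e + e') := by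
  have h1 : σ (a' * e) = a' * e := by rw [map_mul, ha', he]
  have h2 := H.σadd hc h1
  have h3 := H.σadd h2 (H.σtrc b' d)
  calc x2 a * x3 b * x4 c * x5 d * x6 e * (x2 a' * x3 b' * x4 c' * x5 d' * x6 e')
      = x2 a * x3 b * x4 c * x5 d * x6 e * x2 a' * x3 b' * x4 c' * x5 d' * x6 e' := by group
    _ = _ := by rw [H.n2 b d ha hc he ha', H.n3 _ _ _ _ h2 he, H.n4 _ _ _ h3 he hc', H.n5 _ _ _ _ _ he,
      H.n6 _ _ _ _ he he']

/-! ### the group `Q` -/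

omit H in
/-- the join of the root groups `X 2, …, X 6` -/
def QQ (X : ZMod (2 * 6) → Subgroup G) : Subgroup G := X 2 ⊔ X 3 ⊔ X 4 ⊔ X 5 ⊔ X 6

omit H in
theorem X_le (k : ZMod (2 * 6)) (hk : k = 2 ∨ k = 3 ∨ k = 4 ∨ k = 5 ∨ k = 6) : X k ≤ QQ X := by
  unfold QQ
  rcases hk with rfl | rfl | rfl | rfl | rfl
  · exact le_sup_left.trans (le_sup_left.trans (le_sup_left.trans le_sup_left))
  · exact le_sup_right.trans (le_sup_left.trans (le_sup_left.trans le_sup_left))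
  · exact le_sup_right.trans (le_sup_left.trans le_sup_left)
  · exact le_sup_right.trans le_sup_left
  · exact le_sup_right

theorem m2 {a : E} (ha : σ a = a) : x2 a ∈ QQ X := X_le 2 (by simp only [_root_.Nat.reduceMul, _root_.true_or]) ((H.par.mem2 _).2 ⟨a, ha, rfl⟩)
theorem m3 (a : E) : x3 a ∈ QQ X := X_le 3 (by simp only [_root_.Nat.reduceMul, _root_.true_or, _root_.or_true]) ((H.par.mem3 _).2 ⟨a, rfl⟩)
theorem m4 {a : E} (ha : σ a = a) : x4 a ∈ QQ X := X_le 4 (by simp only [_root_.Nat.reduceMul, _root_.true_or, _root_.or_true]) ((H.par.mem4 _).2 ⟨a, ha, rfl⟩)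
theorem m5 (a : E) : x5 a ∈ QQ X := X_le 5 (by simp only [_root_.Nat.reduceMul, _root_.true_or, _root_.or_true]) ((H.par.mem5 _).2 ⟨a, rfl⟩)
theorem m6 {a : E} (ha : σ a = a) : x6 a ∈ QQ X := X_le 6 (by simp only [_root_.Nat.reduceMul, _root_.or_true]) ((H.par.mem6 _).2 ⟨a, ha, rfl⟩)

omit H in
theorem QQ_eq : QQ X = Subgroup.closure ((X 2 : Set G) ∪ X 3 ∪ X 4 ∪ X 5 ∪ X 6) := by
  unfold QQ
  rw [Subgroup.closure_union, Subgroup.closure_union, Subgroup.closure_union, Subgroup.closure_union,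
    Subgroup.closure_eq, Subgroup.closure_eq, Subgroup.closure_eq, Subgroup.closure_eq, Subgroup.closure_eq]

theorem gen_cases {g : G} (hg : g ∈ (X 2 : Set G) ∪ X 3 ∪ X 4 ∪ X 5 ∪ X 6) :
    (∃ a, σ a = a ∧ g = x2 a) ∨ (∃ a, g = x3 a) ∨ (∃ a, σ a = a ∧ g = x4 a) ∨ (∃ a, g = x5 a) ∨
      ∃ a, σ a = a ∧ g = x6 a := by
  rcases hg with (((hg | hg) | hg) | hg) | hg
  · obtain ⟨a, ha, rfl⟩ := (H.par.mem2 g).1 hg; exact Or.inl ⟨a, ha, rfl⟩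
  · obtain ⟨a, rfl⟩ := (H.par.mem3 g).1 hg; exact Or.inr (Or.inl ⟨a, rfl⟩)
  · obtain ⟨a, ha, rfl⟩ := (H.par.mem4 g).1 hg; exact Or.inr (Or.inr (Or.inl ⟨a, ha, rfl⟩))
  · obtain ⟨a, rfl⟩ := (H.par.mem5 g).1 hg; exact Or.inr (Or.inr (Or.inr (Or.inl ⟨a, rfl⟩)))
  · obtain ⟨a, ha, rfl⟩ := (H.par.mem6 g).1 hg; exact Or.inr (Or.inr (Or.inr (Or.inr ⟨a, ha, rfl⟩)))

/-- induction over the generators -/
theorem ind {P : G → Prop} (h1 : P 1) (h2 : ∀ g a, P g → σ a = a → P (g * x2 a)) (h3 : ∀ g a, P g → P (g * x3 a))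
    (h4 : ∀ g a, P g → σ a = a → P (g * x4 a)) (h5 : ∀ g a, P g → P (g * x5 a))
    (h6 : ∀ g a, P g → σ a = a → P (g * x6 a)) {g : G} (hg : g ∈ QQ X) : P g := by
  rw [QQ_eq] at hg
  have key : ∀ g y, y ∈ (X 2 : Set G) ∪ X 3 ∪ X 4 ∪ X 5 ∪ X 6 → P g → P (g * y) := by
    intro g y hy hg
    rcases H.gen_cases hy with ⟨a, ha, rfl⟩ | ⟨a, rfl⟩ | ⟨a, ha, rfl⟩ | ⟨a, rfl⟩ | ⟨a, ha, rfl⟩
    · exact h2 g a hg ha
    · exact h3 g a hg
    · exact h4 g a hg ha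
    · exact h5 g a hg
    · exact h6 g a hg ha
  induction hg using Subgroup.closure_induction_right with
  | one => exact h1
  | mul_right x hx y hy ih => exact key x y hy ih
  | mul_inv_cancel x hx y hy ih =>
    refine key x y⁻¹ ?_ ih
    rcases hy with (((hy | hy) | hy) | hy) | hy
    · exact Or.inl (Or.inl (Or.inl (Or.inl (inv_mem hy))))
    · exact Or.inl (Or.inl (Or.inl (Or.inr (inv_mem hy))))
    · exact Or.inl (Or.inl (Or.inr (inv_mem hy)))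
    · exact Or.inl (Or.inr (inv_mem hy))
    · exact Or.inr (inv_mem hy)

/-- **Normal forms.** -/
theorem nf {g : G} (hg : g ∈ QQ X) : ∃ a b c d e, σ a = a ∧ σ c = c ∧ σ e = e ∧
    g = x2 a * x3 b * x4 c * x5 d * x6 e := by
  refine H.ind (P := fun g => ∃ a b c d e, σ a = a ∧ σ c = c ∧ σ e = e ∧ g = x2 a * x3 b * x4 c * x5 d * x6 e)
    ?_ ?_ ?_ ?_ ?_ ?_ hg
  · exact ⟨0, 0, 0, 0, 0, H.σ0, H.σ0, H.σ0, by
      rw [H.x2_zero, H.x3_zero, H.x4_zero, H.x5_zero, H.x6_zero]; group⟩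
  · rintro _ t ⟨a, b, c, d, e, ha, hc, he, rfl⟩ ht
    exact ⟨a + t, b, c + t * e, d, e, H.σadd ha ht, H.σadd hc (by rw [map_mul, ht, he]), he, H.n2 b d ha hc he ht⟩
  · rintro _ t ⟨a, b, c, d, e, ha, hc, he, rfl⟩
    exact ⟨a, b + t, c + SplitTwo.trc σ t d, d, e, ha, H.σadd hc (H.σtrc t d), he, H.n3 a b d t hc he⟩
  · rintro _ t ⟨a, b, c, d, e, ha, hc, he, rfl⟩ ht
    exact ⟨a, b, c + t, d, e, ha, H.σadd hc ht, he, H.n4 a b d hc he ht⟩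
  · rintro _ t ⟨a, b, c, d, e, ha, hc, he, rfl⟩
    exact ⟨a, b, c, d + t, e, ha, hc, he, H.n5 a b c d t he⟩
  · rintro _ t ⟨a, b, c, d, e, ha, hc, he, rfl⟩ ht
    exact ⟨a, b, c, d, e + t, ha, hc, H.σadd he ht, H.n6 a b c d he ht⟩

theorem nf_mem {a c e : E} (b d : E) (ha : σ a = a) (hc : σ c = c) (he : σ e = e) :
    x2 a * x3 b * x4 c * x5 d * x6 e ∈ QQ X :=
  mul_mem (mul_mem (mul_mem (mul_mem (H.m2 ha) (H.m3 b)) (H.m4 hc)) (H.m5 d)) (H.m6 he)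

theorem z_mem : x4 1 ∈ QQ X := H.m4 H.σ1

theorem comm_z {g : G} (hg : g ∈ QQ X) : g * x4 1 = x4 1 * g := by
  refine H.ind (P := fun g => g * x4 1 = x4 1 * g) ?_ ?_ ?_ ?_ ?_ ?_ hg
  · rw [one_mul, mul_one]
  · intro g a hg ha
    rw [mul_assoc, (H.c24 ha H.σ1).eq, ← mul_assoc, hg, mul_assoc]
  · intro g a hg
    rw [mul_assoc, (H.c34 (a := a) H.σ1).eq, ← mul_assoc, hg, mul_assoc]
  · intro g a hg ha
    rw [mul_assoc, (H.c4 ha H.σ1).eq, ← mul_assoc, hg, mul_assoc]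
  · intro g a hg
    rw [mul_assoc, ← (H.c45 (a := a) H.σ1).eq, ← mul_assoc, hg, mul_assoc]
  · intro g a hg ha
    rw [mul_assoc, ← (H.c46 H.σ1 ha).eq, ← mul_assoc, hg, mul_assoc]

theorem f2 (t : E) : x2 t = x2 t * x3 0 * x4 0 * x5 0 * x6 0 := by
  rw [H.x3_zero, H.x4_zero, H.x5_zero, H.x6_zero]; group
theorem f3 (t : E) : x3 t = x2 0 * x3 t * x4 0 * x5 0 * x6 0 := by
  rw [H.x2_zero, H.x4_zero, H.x5_zero, H.x6_zero]; group
theorem f5 (t : E) : x5 t = x2 0 * x3 0 * x4 0 * x5 t * x6 0 := by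
  rw [H.x2_zero, H.x3_zero, H.x4_zero, H.x6_zero]; group
theorem f6 (t : E) : x6 t = x2 0 * x3 0 * x4 0 * x5 0 * x6 t := by
  rw [H.x2_zero, H.x3_zero, H.x4_zero, H.x5_zero]; group

theorem trc0r (b : E) : SplitTwo.trc σ b 0 = 0 := by unfold SplitTwo.trc; simp

section Comm

variable {a c e : E} (b d : E) (ha : σ a = a) (hc : σ c = c) (he : σ e = e)

include ha hc he

theorem q2 : x2 a * x3 b * x4 c * x5 d * x6 e * x2 1 = x2 1 * (x2 a * x3 b * x4 c * x5 d * x6 e) * x4 e := by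
  have h0 := H.σ0
  have h1 := H.σ1
  rw [H.n2 b d ha hc he h1, H.f2 1, H.nmul 0 0 b d h1 h0 h0 ha hc he,
    H.n4 _ _ _ (by rw [mul_zero, H.trc0r, zero_add, zero_add, zero_add]; exact hc) (by rw [zero_add]; exact he) he]
  simp only [H.trc0r, mul_zero, zero_add, one_mul]
  rw [add_comm a 1, add_comm 1 a]

theorem q6 : x2 a * x3 b * x4 c * x5 d * x6 e * x6 1 = x6 1 * (x2 a * x3 b * x4 c * x5 d * x6 e) * x4 a := by
  have h0 := H.σ0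
  have h1 := H.σ1
  rw [H.n6 a b c d he h1, H.f6 1, H.nmul 0 0 b d h0 h0 h1 ha hc he,
    H.n4 _ _ _ (by rw [mul_one, H.trc0r, zero_add, add_zero]; exact H.σadd ha hc) (H.σadd h1 he) ha]
  simp only [H.trc0r, mul_one, zero_add, add_zero]
  have e1 : a + c + a = c := by rw [add_comm a c, add_assoc, H.add_self, add_zero]
  rw [e1, add_comm e 1]

theorem q3 (s : E) : x2 a * x3 b * x4 c * x5 d * x6 e * x3 s =
    x3 s * (x2 a * x3 b * x4 c * x5 d * x6 e) * x4 (SplitTwo.trc σ s d) := by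
  have h0 := H.σ0
  rw [H.n3 a b d s hc he, H.f3 s, H.nmul s 0 b d h0 h0 h0 ha hc he,
    H.n4 _ _ _ (by rw [mul_zero, H.trc0r, zero_add, zero_add, zero_add]; exact hc) (by rw [zero_add]; exact he)
      (H.σtrc s d)]
  simp only [H.trc0r, mul_zero, zero_add]
  rw [add_comm s b]

theorem q5 (s : E) : x2 a * x3 b * x4 c * x5 d * x6 e * x5 s =
    x5 s * (x2 a * x3 b * x4 c * x5 d * x6 e) * x4 (SplitTwo.trc σ b s) := by
  have h0 := H.σ0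
  have h2 := H.σtrc b s
  rw [H.n5 a b c d s he, H.f5 s, H.nmul 0 s b d h0 h0 h0 ha hc he,
    H.n4 _ _ _ (by rw [mul_zero, zero_add, zero_add]; exact H.σadd h2 hc) (by rw [zero_add]; exact he) h2]
  simp only [mul_zero, zero_add]
  have e1 : SplitTwo.trc σ b s + c + SplitTwo.trc σ b s = c := by
    rw [add_comm _ c, add_assoc, H.add_self, add_zero]
  rw [e1, add_comm s d]

end Comm

theorem trc_eq {b d : E} (h : ∀ s, SplitTwo.trc σ s b = SplitTwo.trc σ s d) : b = d := by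
  by_contra hne
  obtain ⟨s, hs⟩ := H.trc (b - d) (sub_ne_zero.2 hne)
  have h1 : SplitTwo.trc σ s (b - d) = SplitTwo.trc σ s b - SplitTwo.trc σ s d := by
    unfold SplitTwo.trc
    simp only [mul_sub, map_sub]; ring
  rw [h1, h s, sub_self] at hs
  exact zero_ne_one hs

theorem trc_symm (b s : E) : SplitTwo.trc σ b s = SplitTwo.trc σ s b := by
  unfold SplitTwo.trc
  rw [mul_comm b s]

/-- **Uniqueness of normal forms.** -/
theorem nf_inj {a b c d e a' b' c' d' e' : E} (ha : σ a = a) (hc : σ c = c) (he : σ e = e) (ha' : σ a' = a')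
    (hc' : σ c' = c') (he' : σ e' = e')
    (h : x2 a * x3 b * x4 c * x5 d * x6 e = x2 a' * x3 b' * x4 c' * x5 d' * x6 e') :
    a = a' ∧ b = b' ∧ c = c' ∧ d = d' ∧ e = e' := by
  have h2 := H.q2 b d ha hc he
  rw [h, H.q2 b' d' ha' hc' he'] at h2
  have e2 : e = e' := (H.par.inj4 _ _ he' he (mul_left_cancel h2)).symm
  have h6 := H.q6 b d ha hc he
  rw [h, H.q6 b' d' ha' hc' he'] at h6
  have e6 : a = a' := (H.par.inj4 _ _ ha' ha (mul_left_cancel h6)).symm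
  have e3 : d = d' := H.trc_eq fun s => by
    have h3 := H.q3 b d ha hc he s
    rw [h, H.q3 b' d' ha' hc' he' s] at h3
    exact (H.par.inj4 _ _ (H.σtrc _ _) (H.σtrc _ _) (mul_left_cancel h3)).symm
  have e5 : b = b' := H.trc_eq fun s => by
    have h5 := H.q5 b d ha hc he s
    rw [h, H.q5 b' d' ha' hc' he' s] at h5
    rw [← H.trc_symm b, ← H.trc_symm b']
    exact (H.par.inj4 _ _ (H.σtrc _ _) (H.σtrc _ _) (mul_left_cancel h5)).symm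
  subst e2 e6 e3 e5
  refine ⟨rfl, rfl, ?_, rfl, rfl⟩
  have h7 := mul_left_cancel (mul_right_cancel (mul_right_cancel h))
  exact H.par.inj4 _ _ hc hc' h7

/-- commutators lie in `⟨z⟩` -/
theorem comm_cases {g g' : G} (hg : g ∈ QQ X) (hg' : g' ∈ QQ X) : g * g' = g' * g ∨ g * g' = g' * g * x4 1 := by
  obtain ⟨a, b, c, d, e, ha, hc, he, rfl⟩ := H.nf hg
  obtain ⟨a', b', c', d', e', ha', hc', he', rfl⟩ := H.nf hg'
  have s1 : σ (a' * e) = a' * e := by rw [map_mul, ha', he]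
  have s2 : σ (a * e') = a * e' := by rw [map_mul, ha, he']
  have ht : σ (a' * e + SplitTwo.trc σ b' d + (a * e' + SplitTwo.trc σ b d')) =
      a' * e + SplitTwo.trc σ b' d + (a * e' + SplitTwo.trc σ b d') :=
    H.σadd (H.σadd s1 (H.σtrc _ _)) (H.σadd s2 (H.σtrc _ _))
  have key : x2 a * x3 b * x4 c * x5 d * x6 e * (x2 a' * x3 b' * x4 c' * x5 d' * x6 e') =
      x2 a' * x3 b' * x4 c' * x5 d' * x6 e' * (x2 a * x3 b * x4 c * x5 d * x6 e) *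
        x4 (a' * e + SplitTwo.trc σ b' d + (a * e' + SplitTwo.trc σ b d')) := by
    rw [H.nmul b d b' d' ha hc he ha' hc' he', H.nmul b' d' b d ha' hc' he' ha hc he,
      H.n4 _ _ _ (H.σadd (H.σadd (H.σadd hc' s2) (H.σtrc _ _)) hc) (H.σadd he' he) ht]
    have e1 : c' + a * e' + SplitTwo.trc σ b d' + c + (a' * e + SplitTwo.trc σ b' d + (a * e' + SplitTwo.trc σ b d')) =
        c + a' * e + SplitTwo.trc σ b' d + c' := by
      have e2 := H.add_self (a * e')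
      have e3 := H.add_self (SplitTwo.trc σ b d')
      linear_combination e2 + e3
    rw [e1, add_comm a a', add_comm b b', add_comm d d', add_comm e e']
  rw [key]
  rcases H.x4_cases ht with h | h
  · left; rw [h, mul_one]
  · right; rw [h]

theorem sq_cases {g : G} (hg : g ∈ QQ X) : g * g = 1 ∨ g * g = x4 1 := by
  obtain ⟨a, b, c, d, e, ha, hc, he, rfl⟩ := H.nf hg
  have s1 : σ (a * e) = a * e := by rw [map_mul, ha, he]
  rw [H.nmul b d b d ha hc he ha hc he, H.add_self, H.add_self, H.add_self, H.add_self, H.x2_zero, H.x3_zero,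
    H.x5_zero, H.x6_zero, one_mul, one_mul, mul_one, mul_one]
  exact H.x4_cases (H.σadd (H.σadd (H.σadd hc s1) (H.σtrc _ _)) hc)

theorem cent_cases {g : G} (hg : g ∈ QQ X) (h : ∀ y ∈ QQ X, g * y = y * g) : g = 1 ∨ g = x4 1 := by
  obtain ⟨a, b, c, d, e, ha, hc, he, rfl⟩ := H.nf hg
  have key : ∀ {u v w : G}, u * v = v * u * w → u * v = v * u → w = 1 := fun h1 h2 => by
    rw [h2] at h1
    exact (left_eq_mul.1 h1)
  have e2 : e = 0 := H.par.inj4 _ _ he H.σ0 (by rw [H.x4_zero]; exact key (H.q2 b d ha hc he) (h _ (H.m2 H.σ1)))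
  have e6 : a = 0 := H.par.inj4 _ _ ha H.σ0 (by rw [H.x4_zero]; exact key (H.q6 b d ha hc he) (h _ (H.m6 H.σ1)))
  have e3 : d = 0 := H.trc_eq fun s => by
    rw [H.trc0r]
    exact H.par.inj4 _ _ (H.σtrc _ _) H.σ0 (by rw [H.x4_zero]; exact key (H.q3 b d ha hc he s) (h _ (H.m3 s)))
  have e5 : b = 0 := H.trc_eq fun s => by
    rw [H.trc0r, ← H.trc_symm b]
    exact H.par.inj4 _ _ (H.σtrc _ _) H.σ0 (by rw [H.x4_zero]; exact key (H.q5 b d ha hc he s) (h _ (H.m5 s)))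
  rw [e2, e6, e3, e5, H.x2_zero, H.x3_zero, H.x5_zero, H.x6_zero, one_mul, one_mul, mul_one, mul_one]
  exact H.x4_cases hc

/-- **`Q` is extraspecial.** -/
theorem large : Large (⊤ : Subgroup ↥(QQ X)) (⟨x4 1, H.z_mem⟩ : ↥(QQ X)) where
  z_mem := Subgroup.mem_top _
  z_ne h := H.z_ne (congrArg Subtype.val h)
  z_sq := Subtype.ext H.zz
  comm_z x _ := Subtype.ext (H.comm_z x.2)
  conj_mem _ _ _ _ := Subgroup.mem_top _
  sq x _ := by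
    rcases H.sq_cases x.2 with h | h
    · exact Or.inl (Subtype.ext h)
    · exact Or.inr (Subtype.ext h)
  comm x _ y _ := by
    rcases H.comm_cases x.2 y.2 with h | h
    · exact Or.inl (Subtype.ext h)
    · exact Or.inr (Subtype.ext h)
  cent x _ h := by
    rcases H.cent_cases x.2 fun y hy => congrArg Subtype.val (h ⟨y, hy⟩ (Subgroup.mem_top _)) with h | h
    · exact Or.inl (Subtype.ext h)
    · exact Or.inr (Subtype.ext h)
  self _ _ _ := Subgroup.mem_top _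

theorem card_le [Finite G] [Finite E] : 8 * Nat.card E ^ 2 ≤ Nat.card ↥(QQ X) := by
  let β : Bool → E := fun i => if i then 1 else 0
  have hβ : ∀ i, σ (β i) = β i := by
    intro i
    cases i
    · exact H.σ0
    · exact H.σ1
  have hβi : Function.Injective β := by
    intro i j h
    cases i <;> cases j
    · rfl
    · exact absurd h zero_ne_one
    · exact absurd h one_ne_zero
    · rfl
  let f : (Bool × Bool × Bool) × (E × E) → ↥(QQ X) := fun p =>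
    ⟨x2 (β p.1.1) * x3 p.2.1 * x4 (β p.1.2.1) * x5 p.2.2 * x6 (β p.1.2.2), H.nf_mem _ _ (hβ _) (hβ _) (hβ _)⟩
  have hf : Function.Injective f := by
    rintro ⟨⟨i, j, k⟩, b, d⟩ ⟨⟨i', j', k'⟩, b', d'⟩ h
    obtain ⟨h1, h2, h3, h4, h5⟩ := H.nf_inj (hβ _) (hβ _) (hβ _) (hβ _) (hβ _) (hβ _) (congrArg Subtype.val h)
    have e1 := hβi h1
    have e3 := hβi h3
    have e5 := hβi h5
    simp only at e1 e3 e5 h2 h4
    rw [e1, e3, e5, h2, h4]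
  have h1 := Nat.card_le_card_of_injective f hf
  rw [Nat.card_prod, Nat.card_prod, Nat.card_prod, Nat.card_prod, Nat.card_eq_fintype_card (α := Bool),
    Fintype.card_bool] at h1
  calc 8 * Nat.card E ^ 2 = 2 * (2 * 2) * (Nat.card E * Nat.card E) := by ring
    _ ≤ _ := h1

/-- **Subgroups of `Q` not containing the central involution.** -/
theorem index_sq [Finite G] {A : Subgroup G} (hz : x4 1 ∉ A) :
    2 * Nat.card ↥(QQ X) ≤ A.relIndex (QQ X) ^ 2 := by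
  have h1 := H384.LargeIdx.card_sq_le H.large (A := A.subgroupOf (QQ X)) le_top
    (fun h => hz (Subgroup.mem_subgroupOf.1 h))
  have h2 := H.large.card_eq
  have h3 : Nat.card (A.subgroupOf (QQ X)) * A.relIndex (QQ X) = Nat.card ↥(QQ X) :=
    Subgroup.card_mul_index _
  rw [Subgroup.card_top] at h2
  have h4 : 0 < Nat.card (A.subgroupOf (QQ X)) := Nat.card_pos
  generalize Nat.card (A.subgroupOf (QQ X)) = m at h1 h3 h4
  generalize Nat.card ↥(QQ X) = n at h2 h3 ⊢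
  generalize A.relIndex (QQ X) = i at h3 ⊢
  generalize Nat.card H.large.V = v at h1 h2
  have h5 : m ^ 2 * (2 * n) ≤ m ^ 2 * i ^ 2 := by
    calc m ^ 2 * (2 * n) = 2 * (m * m) * n := by ring
      _ ≤ 2 * v * n := Nat.mul_le_mul_right _ (Nat.mul_le_mul_left _ h1)
      _ = n * n := by rw [h2]
      _ = m ^ 2 * i ^ 2 := by rw [← h3]; ring
  exact Nat.le_of_mul_le_mul_left h5 (pow_pos h4 2)

end HD

end Cfsg.Agent.H872.TD4.Hex
end

-- part: H872/TD4/Hex2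
section
/-!
# TEAM TWOCYC (S3507), row `³D₄(2)`: subgroups of the extraspecial group normalised by `X 1` (helper872)
-/

set_option autoImplicit false
set_option linter.unusedSectionVars false

namespace Cfsg.Agent.H872.TD4.Hex

open Cfsg.Agent.SplitTwo Cfsg.Agent.Co2Type.Quad

universe u v

variable {G : Type u} [Group G] {E : Type v} [Field E] {σ : E ≃+* E} {X : ZMod (2 * 6) → Subgroup G}
  {x1 x2 x3 x4 x5 x6 : E → G}

namespace HD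

variable (H : HD σ X x1 x2 x3 x4 x5 x6)

/-- normal forms up to the centre -/
structure NF (σ : E ≃+* E) (x2 x3 x4 x5 x6 : E → G) (a b d e : E) (g : G) : Prop where
  ha : σ a = a
  he : σ e = e
  eq : ∃ c, σ c = c ∧ g = x2 a * x3 b * x4 c * x5 d * x6 e

include H

theorem NF.congr {a b d e a' b' d' e' : E} {g : G} (h : NF σ x2 x3 x4 x5 x6 a b d e g) (h1 : a = a') (h2 : b = b')
    (h3 : d = d') (h4 : e = e') : NF σ x2 x3 x4 x5 x6 a' b' d' e' g := by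
  subst h1 h2 h3 h4; exact h

theorem NF.mul {a b d e a' b' d' e' : E} {g g' : G} (h : NF σ x2 x3 x4 x5 x6 a b d e g)
    (h' : NF σ x2 x3 x4 x5 x6 a' b' d' e' g') :
    NF σ x2 x3 x4 x5 x6 (a + a') (b + b') (d + d') (e + e') (g * g') := by
  obtain ⟨ha, he, c, hc, rfl⟩ := h
  obtain ⟨ha', he', c', hc', rfl⟩ := h'
  refine ⟨H.σadd ha ha', H.σadd he he', _, ?_, H.nmul b d b' d' ha hc he ha' hc' he'⟩
  exact H.σadd (H.σadd (H.σadd hc (by rw [map_mul, ha', he])) (H.σtrc _ _)) hc'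

theorem nf2 {a : E} (ha : σ a = a) : NF σ x2 x3 x4 x5 x6 a 0 0 0 (x2 a) :=
  ⟨ha, H.σ0, 0, H.σ0, H.f2 a⟩
theorem nf3 (b : E) : NF σ x2 x3 x4 x5 x6 0 b 0 0 (x3 b) := ⟨H.σ0, H.σ0, 0, H.σ0, H.f3 b⟩
theorem nf4 {c : E} (hc : σ c = c) : NF σ x2 x3 x4 x5 x6 0 0 0 0 (x4 c) :=
  ⟨H.σ0, H.σ0, c, hc, by rw [H.x2_zero, H.x3_zero, H.x5_zero, H.x6_zero]; group⟩
theorem nf5 (d : E) : NF σ x2 x3 x4 x5 x6 0 0 d 0 (x5 d) := ⟨H.σ0, H.σ0, 0, H.σ0, H.f5 d⟩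
theorem nf6 {e : E} (he : σ e = e) : NF σ x2 x3 x4 x5 x6 0 0 0 e (x6 e) := ⟨H.σ0, he, 0, H.σ0, H.f6 e⟩

theorem x3_inv (b : E) : (x3 b)⁻¹ = x3 b := inv_eq_of_mul_eq_one_left (H.x3_sq b)
theorem x5_inv (b : E) : (x5 b)⁻¹ = x5 b := inv_eq_of_mul_eq_one_left (H.x5_sq b)
theorem x1_inv (b : E) : (x1 b)⁻¹ = x1 b := inv_eq_of_mul_eq_one_left (H.x1_sq b)
theorem x6_inv {b : E} (hb : σ b = b) : (x6 b)⁻¹ = x6 b := inv_eq_of_mul_eq_one_left (H.x6_sq hb)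

/-- conjugation by `x₁(t)` -/
theorem NF.conj (t : E) {a b d e : E} {g : G} (h : NF σ x2 x3 x4 x5 x6 a b d e g) :
    NF σ x2 x3 x4 x5 x6 (a + SplitTwo.trc σ t b + SplitTwo.trc σ (shp σ t) d + e * SplitTwo.nrm σ t)
      (b + SplitTwo.crs σ t d + e * shp σ t) (d + e * t) e ((x1 t)⁻¹ * g * x1 t) := by
  obtain ⟨ha, he, c, hc, rfl⟩ := h
  have y2 : (x1 t)⁻¹ * x2 a * x1 t = x2 a := by
    rw [mul_assoc, ← (H.c12 (a := t) ha).eq, inv_mul_cancel_left]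
  have y4 : (x1 t)⁻¹ * x4 c * x1 t = x4 c := by
    rw [mul_assoc, ← (H.c14 (a := t) hc).eq, inv_mul_cancel_left]
  have y3 : (x1 t)⁻¹ * x3 b * x1 t = x2 (SplitTwo.trc σ t b) * x3 b := by
    rw [← H.par.rel.c13 t b]
    unfold kk
    rw [H.x3_inv, mul_assoc ((x1 t)⁻¹ * x3 b * x1 t), H.x3_sq, mul_one]
  have y5 : (x1 t)⁻¹ * x5 d * x1 t = x2 (-(SplitTwo.trc σ (shp σ t) d)) * x3 (SplitTwo.crs σ t d) *
      x4 (SplitTwo.trc σ t (shp σ d)) * x5 d := by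
    rw [← H.par.rel.c15 t d]
    unfold kk
    rw [H.x5_inv, mul_assoc ((x1 t)⁻¹ * x5 d * x1 t), H.x5_sq, mul_one]
  have y6 : (x1 t)⁻¹ * x6 e * x1 t = x2 (-(e * SplitTwo.nrm σ t)) * x3 (e * shp σ t) *
      x4 (e ^ 2 * SplitTwo.nrm σ t) * x5 (-(e * t)) * x6 e := by
    rw [← H.par.rel.c16 t e he]
    unfold kk
    rw [H.x6_inv he, mul_assoc ((x1 t)⁻¹ * x6 e * x1 t), H.x6_sq he, mul_one]
  have e1 : (x1 t)⁻¹ * (x2 a * x3 b * x4 c * x5 d * x6 e) * x1 t =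
      ((x1 t)⁻¹ * x2 a * x1 t) * ((x1 t)⁻¹ * x3 b * x1 t) * ((x1 t)⁻¹ * x4 c * x1 t) *
        ((x1 t)⁻¹ * x5 d * x1 t) * ((x1 t)⁻¹ * x6 e * x1 t) := by group
  have s1 : σ (-(SplitTwo.trc σ (shp σ t) d)) = -(SplitTwo.trc σ (shp σ t) d) := by rw [map_neg, H.σtrc]
  have s2 : σ (-(e * SplitTwo.nrm σ t)) = -(e * SplitTwo.nrm σ t) := by rw [map_neg, map_mul, he, H.σnrm]
  have s3 : σ (e ^ 2 * SplitTwo.nrm σ t) = e ^ 2 * SplitTwo.nrm σ t := by rw [map_mul, map_pow, he, H.σnrm]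
  have s4 : σ (SplitTwo.trc σ t (shp σ d)) = SplitTwo.trc σ t (shp σ d) := H.σtrc _ _
  rw [e1, y2, y3, y4, y5, y6]
  have n1 := NF.mul H (NF.mul H (NF.mul H (NF.mul H (H.nf2 ha) (NF.mul H (H.nf2 (H.σtrc t b)) (H.nf3 b))) (H.nf4 hc))
    (NF.mul H (NF.mul H (NF.mul H (H.nf2 s1) (H.nf3 (SplitTwo.crs σ t d))) (H.nf4 s4)) (H.nf5 d)))
    (NF.mul H (NF.mul H (NF.mul H (NF.mul H (H.nf2 s2) (H.nf3 (e * shp σ t))) (H.nf4 s3)) (H.nf5 (-(e * t)))) (H.nf6 he))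
  refine NF.congr H n1 ?_ ?_ ?_ ?_
  · rw [H.neg_eq, H.neg_eq]; ring
  · ring
  · rw [H.neg_eq]; ring
  · ring

theorem NF.comm (t : E) {a b d e : E} {g : G} (h : NF σ x2 x3 x4 x5 x6 a b d e g) :
    NF σ x2 x3 x4 x5 x6 (SplitTwo.trc σ t b + SplitTwo.trc σ (shp σ t) d + e * SplitTwo.nrm σ t)
      (SplitTwo.crs σ t d + e * shp σ t) (e * t) 0 ((x1 t)⁻¹ * g * x1 t * g) := by
  refine NF.congr H (NF.mul H (NF.conj H t h) h) ?_ ?_ ?_ (H.add_self e)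
  · linear_combination H.add_self a
  · linear_combination H.add_self b
  · linear_combination H.add_self d

theorem exists_nf {g : G} (hg : g ∈ QQ X) : ∃ a b d e, NF σ x2 x3 x4 x5 x6 a b d e g := by
  obtain ⟨a, b, c, d, e, ha, hc, he, rfl⟩ := H.nf hg
  exact ⟨a, b, d, e, ha, he, c, hc, rfl⟩

theorem NF.mem {a b d e : E} {g : G} (h : NF σ x2 x3 x4 x5 x6 a b d e g) : g ∈ QQ X := by
  obtain ⟨ha, he, c, hc, rfl⟩ := h
  exact H.nf_mem b d ha hc he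

theorem conj_mem (t : E) {g : G} (hg : g ∈ QQ X) : (x1 t)⁻¹ * g * x1 t ∈ QQ X := by
  obtain ⟨a, b, d, e, h⟩ := H.exists_nf hg
  exact NF.mem H (NF.conj H t h)

/-- **A subgroup of `Q` normalised by `X₁`, containing `z` and another element, contains `x₂(1)`.** -/
theorem x2_mem {B : Subgroup G} (hB : B ≤ QQ X) (hz : x4 1 ∈ B) (hn : ∀ t, ∀ b ∈ B, (x1 t)⁻¹ * b * x1 t ∈ B)
    {b0 : G} (hb : b0 ∈ B) (h1 : b0 ≠ 1) (hbz : b0 ≠ x4 1) : x2 1 ∈ B := by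
  have hx4 : ∀ c, σ c = c → x4 c ∈ B := by
    intro c hc
    rcases H.x4_cases hc with h | h
    · rw [h]; exact one_mem B
    · rw [h]; exact hz
  have hc : ∀ t g, g ∈ B → (x1 t)⁻¹ * g * x1 t * g ∈ B := fun t g hg => mul_mem (hn t g hg) hg
  -- level 2
  have l2 : ∀ g a, g ∈ B → NF σ x2 x3 x4 x5 x6 a 0 0 0 g → a ≠ 0 → x2 1 ∈ B := by
    rintro g a hg ⟨ha, -, c, hc, rfl⟩ h0
    rcases H.fix a ha with rfl | rfl
    · exact absurd rfl h0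
    · rw [H.x3_zero, H.x5_zero, H.x6_zero, mul_one, mul_one, mul_one] at hg
      have := mul_mem hg (inv_mem (hx4 c hc))
      rwa [mul_inv_cancel_right] at this
  -- level 3
  have l3 : ∀ g a b, g ∈ B → NF σ x2 x3 x4 x5 x6 a b 0 0 g → b ≠ 0 → x2 1 ∈ B := by
    intro g a b hg hf hb0
    obtain ⟨s, hs⟩ := H.trc b hb0
    refine l2 _ 1 (hc s g hg) (NF.congr H (NF.comm H s hf) ?_ ?_ ?_ rfl) one_ne_zero
    · rw [hs, H.trc0r]; ring
    · unfold SplitTwo.crs; simp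
    · ring
  -- level 5
  have l5 : ∀ g a b d, g ∈ B → NF σ x2 x3 x4 x5 x6 a b d 0 g → d ≠ 0 → x2 1 ∈ B := by
    intro g a b d hg hf hd0
    obtain ⟨s, hs⟩ := H.crs d hd0
    refine l3 _ _ _ (hc s g hg) (NF.congr H (NF.comm H s hf) rfl ?_ ?_ rfl) hs
    · ring
    · ring
  obtain ⟨a, b, d, e, hf⟩ := H.exists_nf (hB hb)
  by_cases he : e = 0
  · subst he
    by_cases hd : d = 0
    · subst hd
      by_cases hb0 : b = 0
      · subst hb0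
        by_cases ha : a = 0
        · subst ha
          exfalso
          obtain ⟨-, -, c, hc, rfl⟩ := hf
          rw [H.x2_zero, H.x3_zero, H.x5_zero, H.x6_zero, one_mul, one_mul, mul_one, mul_one] at h1 hbz
          rcases H.x4_cases hc with h | h
          · exact h1 h
          · exact hbz h
        · exact l2 _ _ hb hf ha
      · exact l3 _ _ _ hb hf hb0
    · exact l5 _ _ _ _ hb hf hd
  · rcases H.fix e hf.he with h | h
    · exact absurd h he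
    · subst h
      refine l5 _ _ _ 1 (hc 1 _ hb) (NF.congr H (NF.comm H 1 hf) rfl rfl ?_ rfl) one_ne_zero
      ring

end HD

end Cfsg.Agent.H872.TD4.Hex
end

-- part: H872/TD4/Act
section
/-!
# TEAM TWOCYC (S3507), row `³D₄(2)`: actions in which the long root involution acts (helper872)
-/

set_option autoImplicit false
set_option linter.unusedSectionVars false

namespace Cfsg.Agent.H872.TD4.Act

open Subgroup MulAction Cfsg.Agent.SplitTwo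

universe u v w

/-! ### generic lemmas -/

theorem relIndex_sup {C : Type*} [Group C] [Finite C] (S N : Subgroup C) [N.Normal] :
    S.relIndex (S ⊔ N) = S.relIndex N := by
  have h1 : N.relIndex (S ⊔ N) = N.relIndex S := relIndex_sup_right S N
  have h2 : N.relIndex (S ⊔ N) * Nat.card N = Nat.card ↥(S ⊔ N) :=
    H384.LargeIdx.relIndex_mul_card le_sup_right
  have h3 : S.relIndex (S ⊔ N) * Nat.card S = Nat.card ↥(S ⊔ N) := H384.LargeIdx.relIndex_mul_card le_sup_left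
  have h4 : N.relIndex S * Nat.card ↥(N.subgroupOf S) = Nat.card S := by
    rw [mul_comm]; exact card_mul_index (N.subgroupOf S)
  have h5 : S.relIndex N * Nat.card ↥(S.subgroupOf N) = Nat.card N := by
    rw [mul_comm]; exact card_mul_index (S.subgroupOf N)
  have h6 : Nat.card ↥(S.subgroupOf N) = Nat.card ↥(N.subgroupOf S) :=
    Nat.card_congr ⟨fun x => ⟨⟨x.1.1, x.2⟩, x.1.2⟩, fun x => ⟨⟨x.1.1, x.2⟩, x.1.2⟩, fun _ => rfl, fun _ => rfl⟩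
  have h7 : 0 < Nat.card S := Nat.card_pos
  apply Nat.eq_of_mul_eq_mul_right h7
  rw [h3, ← h2, h1, ← h4, ← h5, h6]
  ring

/-- an element of prime order `p` lies in every subgroup of index less than `p`, and in the core -/
theorem mem_normalCore {C : Type*} [Group C] [Finite C] {p : ℕ} (hp : p.Prime) (M : Subgroup C) (hM : M.index < p)
    {h : C} (hh : h ^ p = 1) : h ∈ M.normalCore := by
  classical
  rw [M.normalCore_eq_ker, MonoidHom.mem_ker]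
  have : Fintype (C ⧸ M) := Fintype.ofFinite _
  have h1 : orderOf (MulAction.toPermHom C (C ⧸ M) h) ∣ p := by
    apply orderOf_dvd_of_pow_eq_one
    rw [← map_pow, hh, map_one]
  have h2 : orderOf (MulAction.toPermHom C (C ⧸ M) h) ∣ (Fintype.card (C ⧸ M)).factorial := by
    rw [← Fintype.card_perm]
    exact orderOf_dvd_card
  rcases (Nat.dvd_prime hp).1 h1 with h3 | h3
  · exact orderOf_eq_one_iff.1 h3
  · exfalso
    rw [h3, hp.dvd_factorial] at h2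
    have h4 : M.index = Fintype.card (C ⧸ M) := by rw [index_eq_card, Nat.card_eq_fintype_card]
    omega

theorem le_normalizer {C : Type*} [Group C] {L B : Subgroup C} (h : ∀ y ∈ L, ∀ b ∈ B, y * b * y⁻¹ ∈ B) :
    L ≤ normalizer (B : Set C) := by
  intro y hy
  rw [mem_normalizer_iff]
  intro b
  refine ⟨h y hy b, fun hb => ?_⟩
  have := h y⁻¹ (L.inv_mem hy) _ hb
  rwa [inv_inv, show y⁻¹ * (y * b * y⁻¹) * y = b by group] at this

/-- `A ∪ A z` -/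
def adj {C : Type*} [Group C] (A : Subgroup C) (z : C) (hz : z * z = 1) (hc : ∀ x ∈ A, x * z = z * x) : Subgroup C where
  carrier := {x | x ∈ A ∨ x * z ∈ A}
  one_mem' := Or.inl A.one_mem
  mul_mem' := by
    have hcom : ∀ x, x ∈ A ∨ x * z ∈ A → x * z = z * x := by
      rintro x (hx | hx)
      · exact hc x hx
      · have h1 := hc _ hx
        rw [mul_assoc, hz, mul_one] at h1
        calc x * z = z * z * (x * z) := by rw [hz, one_mul]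
          _ = z * (z * (x * z)) := by group
          _ = _ := by rw [← h1]
    intro a b ha hb
    have hbz := hcom b hb
    rcases ha with ha | ha <;> rcases hb with hb | hb
    · exact Or.inl (A.mul_mem ha hb)
    · right; rw [mul_assoc]; exact A.mul_mem ha hb
    · right
      have : a * b * z = a * z * b := by rw [mul_assoc, hbz, ← mul_assoc]
      rw [this]; exact A.mul_mem ha hb
    · left
      have : a * b = a * z * (b * z) := by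
        rw [hbz]
        calc a * b = a * (z * z) * b := by rw [hz, mul_one]
          _ = _ := by group
      rw [this]; exact A.mul_mem ha hb
  inv_mem' := by
    intro a ha
    rcases ha with ha | ha
    · exact Or.inl (A.inv_mem ha)
    · right
      have h1 := hc _ ha
      rw [mul_assoc, hz, mul_one] at h1
      have : a⁻¹ * z = (a * z)⁻¹ := by
        have hzi : z⁻¹ = z := inv_eq_of_mul_eq_one_left hz
        have h2 : a * z = z * a := by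
          calc a * z = z * z * (a * z) := by rw [hz, one_mul]
            _ = z * (z * (a * z)) := by group
            _ = _ := by rw [← h1]
        rw [h2, mul_inv_rev, hzi]
      rw [this]; exact A.inv_mem ha

theorem mem_adj {C : Type*} [Group C] {A : Subgroup C} {z : C} {hz : z * z = 1} {hc : ∀ x ∈ A, x * z = z * x} {x : C} :
    x ∈ adj A z hz hc ↔ x ∈ A ∨ x * z ∈ A := Iff.rfl

/-! ### the argument -/

variable {G : Type u} [Group G] {E : Type v} [Field E] {σ : E ≃+* E} {X : ZMod (2 * 6) → Subgroup G}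
  {x1 x2 x3 x4 x5 x6 : E → G}

open Hex

theorem conj_QQ {n : G} {f : ZMod (2 * 6) → ZMod (2 * 6)} (hf : ∀ k, (k = 2 ∨ k = 3 ∨ k = 4 ∨ k = 5 ∨ k = 6) →
    (f k = 2 ∨ f k = 3 ∨ f k = 4 ∨ f k = 5 ∨ f k = 6))
    (hn : ∀ k x, x ∈ X k → n * x * n⁻¹ ∈ X (f k)) {x : G} (hx : x ∈ HD.QQ X) : n * x * n⁻¹ ∈ HD.QQ X := by
  have h1 : HD.QQ X ≤ (HD.QQ X).comap (MulAut.conj n).toMonoidHom := by
    have h2 : ∀ k, (k = 2 ∨ k = 3 ∨ k = 4 ∨ k = 5 ∨ k = 6) → X k ≤ (HD.QQ X).comap (MulAut.conj n).toMonoidHom := by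
      intro k hk y hy
      exact HD.X_le _ (hf k hk) (hn k y hy)
    unfold HD.QQ
    refine sup_le (sup_le (sup_le (sup_le ?_ ?_) ?_) ?_) ?_
    · exact h2 2 (by simp only [_root_.Nat.reduceMul, _root_.true_or])
    · exact h2 3 (by simp only [_root_.Nat.reduceMul, _root_.true_or, _root_.or_true])
    · exact h2 4 (by simp only [_root_.Nat.reduceMul, _root_.true_or, _root_.or_true])
    · exact h2 5 (by simp)
    · exact h2 6 (by simp)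
  exact h1 hx

theorem card_ge (H : HD σ X x1 x2 x3 x4 x5 x6) [Finite G] [Finite E] (hE : 8 ≤ Nat.card E) {n : G}
    (hn' : ∀ k x, n * x * n⁻¹ ∈ X (8 - k) ↔ x ∈ X k) {h : G} (h7 : h ^ 7 = 1)
    (hh : ∀ k x, x ∈ X k → h * x * h⁻¹ ∈ X k)
    (hx : ∀ a, ∃ b, x1 a = h * x1 b * h⁻¹ * (x1 b)⁻¹) {Ω : Type w} [MulAction G Ω] [Finite Ω] {ω : Ω}
    (hω : x4 1 • ω ≠ ω) : 224 ≤ Nat.card Ω := by
  classical
  have hn : ∀ k x, x ∈ X k → n * x * n⁻¹ ∈ X (8 - k) := fun k x => (hn' k x).2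
  by_contra hlt
  rw [not_le] at hlt
  set Q : Subgroup G := HD.QQ X with hQ
  set z : G := x4 1 with hz
  -- the subgroup `P`
  let P : Subgroup G := normalizer (Q : Set G) ⊓ centralizer ({z} : Set G)
  have hP : ∀ g, (∀ x ∈ Q, g * x * g⁻¹ ∈ Q) → g * z = z * g → g ∈ P := by
    intro g h1 h2
    have h3 : Nat.card Q = Nat.card (Q.map (MulAut.conj g).toMonoidHom) :=
      Nat.card_congr (Q.equivMapOfInjective _ (MulAut.conj g).injective).toEquiv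
    have h4 : Q.map (MulAut.conj g).toMonoidHom ≤ Q := by
      rintro _ ⟨x, hx, rfl⟩
      exact h1 x hx
    have h5 : Q.map (MulAut.conj g).toMonoidHom = Q := Subgroup.eq_of_le_of_card_ge h4 h3.le
    refine ⟨mem_normalizer_iff.2 fun x => ?_, mem_centralizer_singleton_iff.2 h2⟩
    refine ⟨h1 x, fun hx => ?_⟩
    rw [← h5] at hx
    obtain ⟨y, hy, hyx⟩ := hx
    have : y = x := (MulAut.conj g).injective hyx
    exact this ▸ hy
  have hPz : ∀ g ∈ P, g * z = z * g := fun g hg => mem_centralizer_singleton_iff.1 hg.2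
  have hPQ : ∀ g ∈ P, ∀ x ∈ Q, g * x * g⁻¹ ∈ Q := fun g hg x hx => (mem_normalizer_iff.1 hg.1 x).1 hx
  have hX4 : ∀ g ∈ X 4, g = 1 ∨ g = z := by
    intro g hg
    obtain ⟨a, ha, rfl⟩ := (H.par.mem4 g).1 hg
    exact H.x4_cases ha
  have hz4 : z ∈ X 4 := (H.par.mem4 z).2 ⟨1, H.σ1, rfl⟩
  have hfix : ∀ g, (g * z * g⁻¹ ∈ X 4) → g * z = z * g := by
    intro g hg
    rcases hX4 _ hg with h1 | h1
    · exfalso
      have h2 : z = 1 := by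
        have : z = g⁻¹ * (g * z * g⁻¹) * g := by group
        rw [this, h1]; group
      exact H.z_ne h2
    · exact mul_inv_eq_iff_eq_mul.1 h1
  have hzQ : z ∈ Q := H.z_mem
  have hQP : Q ≤ P := by
    intro g hg
    exact hP g (fun x hx => mul_mem (mul_mem hg hx) (inv_mem hg)) (H.comm_z hg)
  have hhP : h ∈ P := hP h (fun x hx => conj_QQ (f := id) (fun k hk => hk) hh hx) (hfix h (hh 4 z hz4))
  have hnP : n ∈ P := by
    refine hP n (fun x hx => conj_QQ (f := fun k => 8 - k) ?_ hn hx) (hfix n ?_)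
    · rintro k (rfl | rfl | rfl | rfl | rfl) <;> decide
    · have := hn 4 z hz4
      rwa [show (8 : ZMod (2 * 6)) - 4 = 4 by decide] at this
  have hx1P : ∀ t, x1 t ∈ P := by
    intro t
    refine hP _ (fun x hx => ?_) (H.c14 H.σ1).eq
    have h1 := H.conj_mem t hx
    rw [H.x1_inv] at h1 ⊢
    exact h1
  -- the stabiliser
  let S : Subgroup P := (stabilizer G ω).subgroupOf P
  let QP : Subgroup P := Q.subgroupOf P
  have hQPn : QP.Normal := ⟨fun x hx g => hPQ g g.2 x hx⟩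
  let A : Subgroup G := stabilizer G ω ⊓ Q
  have hzA : z ∉ A := fun h => hω h.1
  have hrelA : A.relIndex Q = (stabilizer G ω).relIndex Q := inf_relIndex_right _ _
  have h32 : 32 ≤ A.relIndex Q := by
    have h1 := H.index_sq hzA
    have h2 := H.card_le
    by_contra hlt2
    rw [not_le] at hlt2
    have h3 : A.relIndex Q ^ 2 ≤ 31 ^ 2 := Nat.pow_le_pow_left (by omega) 2
    have h4 : 8 ^ 2 ≤ Nat.card E ^ 2 := Nat.pow_le_pow_left hE 2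
    change 2 * Nat.card Q ≤ A.relIndex Q ^ 2 at h1
    change 8 * Nat.card E ^ 2 ≤ Nat.card Q at h2
    omega
  have hSQ : S.relIndex QP = A.relIndex Q := by
    rw [hrelA]
    exact relIndex_subgroupOf hQP
  have hSi : S.index = S.relIndex (S ⊔ QP) * (S ⊔ QP).index := (relIndex_mul_index le_sup_left).symm
  have hle : S.index ≤ Nat.card Ω := by
    have h1 : S = stabilizer P ω := by ext; rfl
    rw [h1, index_stabilizer]
    exact Nat.card_le_card_of_injective _ Subtype.val_injective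
  rw [relIndex_sup, hSQ] at hSi
  set M : Subgroup P := S ⊔ QP with hM
  have hMi : M.index < 7 := by
    by_contra h1
    rw [not_lt] at h1
    have h2 : 32 * 7 ≤ A.relIndex Q * M.index := Nat.mul_le_mul h32 h1
    omega
  -- the core
  have hhN : (⟨h, hhP⟩ : P) ∈ M.normalCore :=
    mem_normalCore (by norm_num) M hMi (Subtype.ext (by simpa only [_root_.SubmonoidClass.mk_pow, _root_.OneMemClass.coe_one] using h7))
  have hNn : M.normalCore.Normal := inferInstance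
  have hx1N : ∀ a, (⟨x1 a, hx1P a⟩ : P) ∈ M.normalCore := by
    intro a
    obtain ⟨b, hb⟩ := hx a
    have e1 : (⟨x1 a, hx1P a⟩ : P) = ⟨h, hhP⟩ * (⟨x1 b, hx1P b⟩ * ⟨h, hhP⟩⁻¹ * ⟨x1 b, hx1P b⟩⁻¹) :=
      Subtype.ext (by
        show x1 a = h * (x1 b * h⁻¹ * (x1 b)⁻¹)
        rw [hb]; group)
    rw [e1]
    exact mul_mem hhN (hNn.conj_mem _ (inv_mem hhN) _)
  have hx1N' : ∀ a, (⟨n, hnP⟩⁻¹ * ⟨x1 a, hx1P a⟩ * ⟨n, hnP⟩ : P) ∈ M.normalCore := by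
    intro a
    have := hNn.conj_mem _ (hx1N a) (⟨n, hnP⟩⁻¹)
    rwa [inv_inv] at this
  -- the subgroup `B`
  have hAQ : A ≤ Q := inf_le_right
  let B : Subgroup G := adj A z H.zz (fun x hx => H.comm_z (hAQ hx))
  have hAB : A ≤ B := fun x hx => mem_adj.2 (Or.inl hx)
  have hzB : z ∈ B := mem_adj.2 (Or.inr (by rw [H.zz]; exact A.one_mem))
  have hBQ : B ≤ Q := by
    intro x hx
    rcases mem_adj.1 hx with h1 | h1
    · exact hAQ h1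
    · have := mul_mem (hAQ h1) (inv_mem hzQ)
      rwa [mul_inv_cancel_right] at this
  have hMB : ∀ y ∈ M, ∀ b ∈ B, (y : G) * b * (y : G)⁻¹ ∈ B := by
    have h1 : M ≤ (normalizer (B : Set G)).comap P.subtype := by
      refine sup_le ?_ ?_
      · have h2 : S.map P.subtype ≤ normalizer (B : Set G) := by
          apply le_normalizer
          rintro _ ⟨y, hy, rfl⟩ b hb
          have hyω : (y : G) • ω = ω := hy
          have hyA : ∀ b ∈ A, (y : G) * b * (y : G)⁻¹ ∈ A := by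
            intro b hb
            refine ⟨?_, hPQ y y.2 b hb.2⟩
            have hbω : b • ω = ω := hb.1
            show ((y : G) * b * (y : G)⁻¹) • ω = ω
            have hyi : (y : G)⁻¹ • ω = ω := by rw [inv_smul_eq_iff, hyω]
            rw [mul_smul, mul_smul, hyi, hbω, hyω]
          rcases mem_adj.1 hb with h3 | h3
          · exact mem_adj.2 (Or.inl (hyA b h3))
          · refine mem_adj.2 (Or.inr ?_)
            have h4 := hyA _ h3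
            have h5 := hPz y y.2
            have h6 : (y : G) * (b * z) * (y : G)⁻¹ = (y : G) * b * (y : G)⁻¹ * z := by
              calc (y : G) * (b * z) * (y : G)⁻¹ = y * b * (y : G)⁻¹ * (y * z) * (y : G)⁻¹ := by group
                _ = _ := by rw [h5]; group
            rw [h6] at h4
            exact h4
        intro y hy
        exact h2 ⟨y, hy, rfl⟩
      · have h2 : QP.map P.subtype ≤ normalizer (B : Set G) := by
          apply le_normalizer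
          rintro _ ⟨y, hy, rfl⟩ b hb
          have hyQ : (y : G) ∈ Q := hy
          rcases H.comm_cases hyQ (hBQ hb) with h3 | h3
          · have : (y : G) * b * (y : G)⁻¹ = b := by rw [h3, mul_inv_cancel_right]
            change (y : G) * b * (y : G)⁻¹ ∈ B
            rw [this]; exact hb
          · have : (y : G) * b * (y : G)⁻¹ = b * z := by
              have h4 : (y : G) * z = z * y := H.comm_z hyQ
              rw [h3]
              change b * (y : G) * z * (y : G)⁻¹ = b * z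
              rw [mul_assoc b, h4]; group
            change (y : G) * b * (y : G)⁻¹ ∈ B
            rw [this]; exact mul_mem hb hzB
        intro y hy
        exact h2 ⟨y, hy, rfl⟩
    intro y hy b hb
    exact (mem_normalizer_iff.1 (h1 hy) b).1 hb
  have hNB : ∀ y ∈ M.normalCore, ∀ b ∈ B, (y : G)⁻¹ * b * (y : G) ∈ B := by
    intro y hy b hb
    have := hMB _ (inv_mem (normalCore_le M hy)) b hb
    simpa only [_root_.InvMemClass.coe_inv, _root_.inv_inv] using this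
  -- `A` is not trivial
  obtain ⟨b0, hb0, hb1⟩ : ∃ b ∈ A, b ≠ 1 := by
    by_contra hne
    push Not at hne
    have h1 : A = ⊥ := (eq_bot_iff_forall A).2 hne
    have h2 : A.relIndex Q ≤ Nat.card Ω := by
      have h3 : A.relIndex Q * 1 ≤ A.relIndex Q * M.index :=
        Nat.mul_le_mul_left _ (Nat.one_le_iff_ne_zero.2 index_ne_zero_of_finite)
      omega
    rw [h1, relIndex_bot_left] at h2
    have h4 := H.card_le
    change 8 * Nat.card E ^ 2 ≤ Nat.card Q at h4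
    have h5 : 8 ^ 2 ≤ Nat.card E ^ 2 := Nat.pow_le_pow_left hE 2
    omega
  have hbz : b0 ≠ z := fun h => hzA (h ▸ hb0)
  -- `x₂(1) ∈ B`
  have m2 : x2 1 ∈ B := H.x2_mem hBQ hzB (fun t b hb => hNB _ (hx1N t) b hb) (hAB hb0) hb1 hbz
  -- the conjugate of `B`
  let B' : Subgroup G := B.map (MulAut.conj n).toMonoidHom
  have hB' : ∀ x, x ∈ B' ↔ n⁻¹ * x * n ∈ B := by
    intro x
    constructor
    · rintro ⟨y, hy, rfl⟩
      have : n⁻¹ * (n * y * n⁻¹) * n = y := by group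
      show n⁻¹ * (n * y * n⁻¹) * n ∈ B
      rw [this]; exact hy
    · intro hx
      refine ⟨_, hx, ?_⟩
      show n * (n⁻¹ * x * n) * n⁻¹ = x
      group
  have hnz : n * z = z * n := hPz n hnP
  have hzB' : z ∈ B' := by
    rw [hB', mul_assoc, ← hnz, inv_mul_cancel_left]; exact hzB
  have hB'Q : B' ≤ Q := by
    rintro _ ⟨y, hy, rfl⟩
    exact hPQ n hnP y (hBQ hy)
  have m6 : x2 1 ∈ B' := by
    refine H.x2_mem hB'Q hzB' ?_ (b0 := n * b0 * n⁻¹) ?_ ?_ ?_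
    · intro t b hb
      rw [hB'] at hb ⊢
      have := hNB _ (hx1N' t) _ hb
      have e1 : ((⟨n, hnP⟩⁻¹ * ⟨x1 t, hx1P t⟩ * ⟨n, hnP⟩ : P) : G) = n⁻¹ * x1 t * n := rfl
      rw [e1] at this
      have e2 : (n⁻¹ * x1 t * n)⁻¹ * (n⁻¹ * b * n) * (n⁻¹ * x1 t * n) = n⁻¹ * ((x1 t)⁻¹ * b * x1 t) * n := by group
      rwa [e2] at this
    · rw [hB']
      have : n⁻¹ * (n * b0 * n⁻¹) * n = b0 := by group
      rw [this]; exact hAB hb0
    · intro h1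
      exact hb1 (conj_eq_one_iff.1 h1)
    · intro h1
      apply hbz
      rw [mul_inv_eq_iff_eq_mul, ← hnz] at h1
      exact mul_left_cancel h1
  rw [hB'] at m6
  -- `n⁻¹ x₂(1) n = x₆(1)`
  have h6 : n⁻¹ * x2 1 * n = x6 1 := by
    have h1 : n⁻¹ * x2 1 * n ∈ X 6 := by
      rw [← hn' 6]
      have e1 : n * (n⁻¹ * x2 1 * n) * n⁻¹ = x2 1 := by group
      rw [e1, show (8 : ZMod (2 * 6)) - 6 = 2 by decide]
      exact (H.par.mem2 _).2 ⟨1, H.σ1, rfl⟩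
    obtain ⟨e, he, h2⟩ := (H.par.mem6 _).1 h1
    rcases H.fix e he with rfl | rfl
    · exfalso
      rw [H.x6_zero] at h2
      have h3 : x2 1 = 1 := by
        have : x2 1 = n * (n⁻¹ * x2 1 * n) * n⁻¹ := by group
        rw [this, ← h2]; group
      rw [← H.x2_zero] at h3
      exact one_ne_zero (H.par.inj2 1 0 H.σ1 H.σ0 h3)
    · exact h2.symm
  rw [h6] at m6
  -- `B` is commutative
  have cA : ∀ x ∈ A, ∀ y ∈ A, x * y = y * x := by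
    intro x hx y hy
    rcases H.comm_cases (hAQ hx) (hAQ hy) with h1 | h1
    · exact h1
    · exfalso
      apply hzA
      have : z = (y * x)⁻¹ * (x * y) := by rw [h1]; show x4 1 = _; group
      rw [this]
      exact A.mul_mem (A.inv_mem (A.mul_mem hy hx)) (A.mul_mem hx hy)
  have key : ∀ x ∈ Q, ∀ y ∈ Q, (x * z) * y = y * (x * z) → x * y = y * x := by
    intro x _ y hy h1
    have h2 : z * y = y * z := (H.comm_z hy).symm
    rw [mul_assoc, h2, ← mul_assoc, ← mul_assoc] at h1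
    exact mul_right_cancel h1
  have cB1 : ∀ x ∈ B, ∀ y ∈ A, x * y = y * x := by
    intro x hx y hy
    rcases mem_adj.1 hx with h1 | h1
    · exact cA x h1 y hy
    · exact key x (hBQ hx) y (hAQ hy) (cA _ h1 y hy)
  have cB : ∀ x ∈ B, ∀ y ∈ B, x * y = y * x := by
    intro x hx y hy
    rcases mem_adj.1 hy with h1 | h1
    · exact cB1 x hx y h1
    · exact (key y (hBQ hy) x (hBQ hx) (cB1 x hx _ h1).symm).symm
  have h8 := cB _ m6 _ m2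
  rw [H.m62 H.σ1 H.σ1, mul_one] at h8
  exact H.z_ne (mul_eq_left.1 h8)

end Cfsg.Agent.H872.TD4.Act
end

-- part: H872/TD4/Main
section
/-!
# TEAM TWOCYC (S3507), row `³D₄(q)`: pairs of commuting elements, any characteristic (helper872)

The proof of `H378.OmD4.main` (helper378), with a bound for the exponent of the unipotent element in any characteristic.
-/

set_option autoImplicit false
set_option linter.unusedSectionVars false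

namespace Cfsg.Agent.H872.TD4

open CoxeterSystem Cfsg Cfsg.Lie Cfsg.Lie.ChevalleyDatum
open Cfsg.Agent.ChevalleyStructure Cfsg.Agent.ChevalleyStructure.Elts Cfsg.Agent.ChevalleyStructure.CoxeterGeom
  Cfsg.Agent.ChevalleyStructure.CoxeterGeomTypes Cfsg.Agent.ChevalleyStructure.NPerm
open Cfsg.Agent.Tits.Roots Cfsg.Agent.Tits.Core Cfsg.Agent.Nodes Cfsg.Agent.Nodes.Reps Cfsg.Agent.Nodes.BNOf
  Cfsg.Agent.Nodes.RGDChev Cfsg.Agent.Nodes.Bruhat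
open Cfsg.Agent.KFacts.RgdField Cfsg.Agent.KFacts.RgdChevCoord
open Cfsg.Agent.BpExc Cfsg.Agent.BpExc.TorCent Cfsg.Agent.BpExc.TorChev Cfsg.Agent.BpExc.Tow
  Cfsg.Agent.BpExc.TowChev Cfsg.Agent.BpExc.Fr Cfsg.Agent.BpExc.NInst
open Cfsg.Agent.H129.TorusChar Cfsg.Agent.H129.TriD4
open Cfsg.Agent.H378 Cfsg.Agent.H378.OmD4
open scoped commutatorElement

universe u v

section Unip

variable {W : Type v} [Group W] (cs : CoxeterSystem coxeterD4 W)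
variable {k : Type u} [Field k] (hk : LocFin k) (p : ℕ) [Fact p.Prime] [CharP k p] {x : ↥(chevD4.group k)}

include hk p

/-- `p`-th powers -/
theorem pow_Hn [Finite W] {n : ℤ} (hn : 0 ≤ n) (hx : x ∈ RGD.Sup (XX chevD4 4 k) (Hn cs n)) :
    x ^ p ∈ RGD.Sup (XX chevD4 4 k) (Hn cs (2 * n)) := by
  refine NilExp.pow_mem (S := Hn cs n) (S' := Hn cs (2 * n)) ?_ ?_ ?_ hx
  · rintro a ⟨h1, h2, h3⟩
    exact ⟨h1, h2, by omega⟩
  · intro a ha b hb y hy z hz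
    exact comm_Hn cs hk p ha hb hy hz (by omega)
  · intro a ha y hy
    exact NilExp.pow_root RGDTwD4.hp cs hk p ha.1 hy

/-- the elements of `U` -/
theorem U_exp' [Finite W] (hx : x ∈ RGD.Sup (XX chevD4 4 k) (Hn cs 1)) : x ^ p ^ 3 = 1 := by
  have h3 := pow_Hn cs hk p (by norm_num) (pow_Hn cs hk p (by norm_num) (pow_Hn cs hk p (by norm_num) hx))
  rw [Hn_empty cs (by norm_num), Sup_empty, Subgroup.mem_bot, ← pow_mul, ← pow_mul] at h3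
  rw [show p ^ 3 = p * (p * p) by ring]
  exact h3

/-- no sums of three roots -/
theorem exp_two' [Finite W] {S : Set (Fin 4 → ℤ)} (hS : ∀ a ∈ S, IsRoot cs RGDTwD4.hp.isCartan a ∧ 0 ≤ a)
    (hcl : ∀ a ∈ S, ∀ b ∈ S, IsRoot cs RGDTwD4.hp.isCartan (a + b) → a + b ∈ S)
    (hsum : ∀ a ∈ S, ∀ b ∈ S, ∀ c ∈ S, IsRoot cs RGDTwD4.hp.isCartan (a + b) →
      ¬ IsRoot cs RGDTwD4.hp.isCartan (a + b + c)) (hx : x ∈ RGD.Sup (XX chevD4 4 k) S) :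
    x ^ (p * p) = 1 := by
  set S₁ : Set (Fin 4 → ℤ) := {z | z ∈ S ∧ ∃ a ∈ S, ∃ b ∈ S, z = a + b} with hS₁
  have hle : S₁ ⊆ S := fun z hz => hz.1
  have hc : ∀ a ∈ S, ∀ b ∈ S, ∀ y ∈ XX chevD4 4 k a, ∀ z ∈ XX chevD4 4 k b,
      ⁅y, z⁆ ∈ RGD.Sup (XX chevD4 4 k) S₁ := fun a ha b hb y hy z hz =>
    NilExp.comm_pos RGDTwD4.hp cs (sl_D4 cs) hk p (S := S₁) (hS a ha).1 (hS a ha).2 (hS b hb).1 (hS b hb).2
      (fun h => ⟨hcl a ha b hb h, a, ha, b, hb, rfl⟩) hy hz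
  have hc' : ∀ a ∈ S₁, ∀ b ∈ S, ∀ y ∈ XX chevD4 4 k a, ∀ z ∈ XX chevD4 4 k b,
      ⁅y, z⁆ ∈ RGD.Sup (XX chevD4 4 k) (∅ : Set (Fin 4 → ℤ)) := fun a ha b hb y hy z hz =>
    NilExp.comm_pos RGDTwD4.hp cs (sl_D4 cs) hk p (hS a ha.1).1 (hS a ha.1).2 (hS b hb).1 (hS b hb).2
      (fun h => by
        obtain ⟨haS, c, hc, d, hd, rfl⟩ := ha
        exact absurd h (hsum c hc d hd b hb (hS _ haS).1)) hy hz
  have h1 := NilExp.pow_mem hle hc (p := p)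
    (fun a ha y hy => NilExp.pow_root RGDTwD4.hp cs hk p (hS a ha).1 hy) hx
  have h2 := NilExp.pow_mem (Set.empty_subset S₁) (fun a ha b hb => hc' a ha b hb.1) (p := p)
    (fun a ha y hy => NilExp.pow_root RGDTwD4.hp cs hk p (hS a ha.1).1 hy) h1
  rw [Sup_empty, Subgroup.mem_bot, ← pow_mul] at h2
  exact h2

end Unip

section Main

variable {k : Type u} [Field k] [IsAlgClosed k] {p e : ℕ} [Fact p.Prime] [CharP k p]

/-- **Pairs of commuting elements.** -/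
theorem pairs (hk : LocFin k) (hka : BpExc.TorAll.HAlg p k) {s u : ↥(chevD4.group k)} (hσs : tau k p e s = s)
    (hsu : u * s = s * u) {m : ℕ} (hm : m ≠ 0) (hmp : m.Coprime p) (hsm : s ^ m = 1) {j : ℕ} (huj : u ^ p ^ j = 1) :
    (u = 1 ∧ (s ^ ((p ^ e) ^ 4 + (p ^ e) ^ 3) = s ^ (p ^ e + 1) ∨ s ^ ((p ^ e) ^ 4 + p ^ e) = s ^ ((p ^ e) ^ 3 + 1) ∨
      s ^ ((p ^ e) ^ 4 + 1) = s ^ (p ^ e) ^ 2)) ∨
    (s = 1 ∧ u ^ p ^ 3 = 1) ∨
    (u ^ p = 1 ∧ (s ^ (p ^ e) ^ 3 = s ∨ s ^ ((p ^ e) ^ 3 + 1) = 1)) ∨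
    ((u ^ (p * p) = 1 ∧ (p = 3 → u ^ 3 = 1)) ∧
      (s ^ ((p ^ e) ^ 2 + p ^ e + 1) = 1 ∨ s ^ ((p ^ e) ^ 2 + 1) = s ^ p ^ e)) := by
  set cs := coxeterD4.toCoxeterSystem
  have hfin := finite_W RGDTwD4.hp cs
  have H := tow (k := k) RGDTwD4.hp cs hk p
  have hN : NSys coxeterD4 (TT chevD4 k) (nc RGDTwD4.hp k) := by
    have h1 := H.nsys
    rwa [TL_eq RGDTwD4.hp hk] at h1
  obtain ⟨z₁, t, n, w, hx, ht, hn, hnt⟩ := H720.TorusReal.exists_toral RGDTwD4.hp cs hka hk (fr_tau cs) hN hσs hm hmp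
    hsm
  have hchi := fr_conj_tau cs hk hn ht hnt
  obtain ⟨v, i, hi⟩ := exists_conj_rep cs w
  obtain ⟨g, hg⟩ := exists_rp cs hN v
  set t' := g * t * g⁻¹ with ht'
  have htT : t' ∈ TT chevD4 k := (Subgroup.mem_normalizer_iff.1 hg.mem_normalizer t).1 ht
  have hR : ∀ y : V, cX RGDTwD4.hp t' ((reps i).ap y).fn = cX RGDTwD4.hp t' y.fn ^ p ^ e := by
    intro y
    have h1 := hi y
    rw [← h1]
    show cX RGDTwD4.hp t' (rep cs RGDTwD4.hp.isCartan v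
      (rep cs RGDTwD4.hp.isCartan w (tri (rep cs RGDTwD4.hp.isCartan v⁻¹ y.fn)))) = _
    rw [ht', cX_rp RGDTwD4.hp cs hk p hg ht, hchi, ← cX_rp RGDTwD4.hp cs hk p hg ht, rep_apply_inv]
  have hmc := isMC_cX RGDTwD4.hp htT
  set z := z₁ * g⁻¹ with hz
  have hs : s = z * t' * z⁻¹ := by rw [hx, ht', hz]; group
  have hpow : ∀ a b : ℕ, (∀ j, cX RGDTwD4.hp t' (sr j) ^ a = cX RGDTwD4.hp t' (sr j) ^ b) → s ^ a = s ^ b := by
    intro a b h1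
    have h2 : t' ^ a = t' ^ b := cX_inj RGDTwD4.hp (pow_mem htT a) (pow_mem htT b) fun j => by
      rw [cX_pow RGDTwD4.hp htT, cX_pow RGDTwD4.hp htT, h1]
    have h3 : ∀ n : ℕ, s ^ n = z * t' ^ n * z⁻¹ := fun n => by rw [hs]; exact conj_pow
    rw [h3, h3, h2]
  obtain ⟨g₂, hg₂, hU⟩ := UnipCent.exists_conj RGDTwD4.hp cs hk (p := p) htT (u := z⁻¹ * u * z) (j := j) (by
      have h1 : t' = z⁻¹ * s * z := by rw [hs]; group
      rw [h1]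
      calc z⁻¹ * u * z * (z⁻¹ * s * z) = z⁻¹ * (u * s) * z := by group
        _ = z⁻¹ * (s * u) * z := by rw [hsu]
        _ = _ := by group) (by
      have h1 := conj_pow (a := z⁻¹) (b := u) (i := p ^ j)
      rw [inv_inv] at h1
      rw [h1, huj]; group)
  set u' := g₂ * (z⁻¹ * u * z) * g₂⁻¹ with hu'
  have hupow : ∀ a : ℕ, u' ^ a = 1 → u ^ a = 1 := by
    intro a h1
    have h2 : u = (g₂ * z⁻¹)⁻¹ * u' * (g₂ * z⁻¹) := by rw [hu']; group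
    have h3 := conj_pow (a := (g₂ * z⁻¹)⁻¹) (b := u') (i := a)
    rw [inv_inv] at h3
    rw [h2, h3, h1]; group
  set S := SP (Sx cs RGDTwD4.hp.isCartan (ch RGDTwD4.hp) t') with hS
  have hSr : ∀ a ∈ S, IsRoot cs RGDTwD4.hp.isCartan a ∧ 0 ≤ a := fun a ha => ⟨ha.1.1, ha.2⟩
  have hSv : ∀ a ∈ S, ∃ y ∈ pos, y.fn = a ∧ cX RGDTwD4.hp t' y.fn = 1 := by
    intro a ha
    obtain ⟨y, hy, e⟩ := mem_pos cs ha.1.1 ha.2
    exact ⟨y, hy, e, by rw [e, cX_root RGDTwD4.hp cs htT ha.1.1]; exact ha.1.2⟩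
  have hadd : ∀ {x y : V}, x ∈ pos → y ∈ pos → 0 ≤ x.fn → 0 ≤ y.fn →
      IsRoot cs RGDTwD4.hp.isCartan (x.fn + y.fn) → x.add y ∈ pos := by
    intro x y hx hy h0 h0' h1
    obtain ⟨w', hw', e⟩ := mem_pos cs h1 (add_nonneg h0 h0')
    have h2 : w' = x.add y := fn_inj (by rw [e, fn_add])
    rwa [h2] at hw'
  by_cases hne : S = ∅
  · -- no roots
    left
    rw [hne, Sup_empty, Subgroup.mem_bot] at hU
    refine ⟨by simpa only [_root_.pow_one] using hupow 1 (by rw [pow_one]; exact hU), ?_⟩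
    rcases c0' hmc hR with h | h | h
    · left
      refine hpow _ _ fun j => ?_
      rw [pow_add, pow_add, pow_one]
      exact h j
    · right; left
      refine hpow _ _ fun j => ?_
      rw [pow_add, pow_add, pow_one]
      exact h j
    · right; right
      refine hpow _ _ fun j => ?_
      rw [pow_add, pow_one]
      exact h j
  obtain ⟨a₀, ha₀⟩ := Set.nonempty_iff_ne_empty.2 hne
  by_cases hsum : ∃ a ∈ S, ∃ b ∈ S, IsRoot cs RGDTwD4.hp.isCartan (a + b)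
  · -- sums
    by_cases hall : ∀ y : V, cX RGDTwD4.hp t' y.fn = 1
    · right; left
      have ht1 : t' = 1 := cX_inj RGDTwD4.hp htT (one_mem _) fun j => by
        rw [cX_one, ← fn_bas]; exact hall _
      refine ⟨by rw [hs, ht1]; group, ?_⟩
      have h1 : u' ∈ RGD.Sup (XX chevD4 4 k) (Hn cs 1) := by
        refine RGD.Sup_mono (S := S) ?_ hU
        intro a ha
        refine ⟨ha.1.1, ha.2, ?_⟩
        have := RGD.ht_pos ha.1.1 ha.2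
        omega
      exact hupow _ (U_exp' cs hk p h1)
    · right; right; right
      have key : ∀ a ∈ S, ∀ b ∈ S, IsRoot cs RGDTwD4.hp.isCartan (a + b) →
          ((∀ j, cX RGDTwD4.hp t' (sr j) ^ (p ^ e) ^ 2 * cX RGDTwD4.hp t' (sr j) ^ p ^ e *
            cX RGDTwD4.hp t' (sr j) = 1) ∨ (∀ j, cX RGDTwD4.hp t' (sr j) ^ (p ^ e) ^ 2 * cX RGDTwD4.hp t' (sr j) =
              cX RGDTwD4.hp t' (sr j) ^ p ^ e)) ∧
            ∀ c ∈ S, ¬ IsRoot cs RGDTwD4.hp.isCartan (a + b + c) := by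
        intro a ha b hb hab
        obtain ⟨x, hx, ex, hx1⟩ := hSv a ha
        obtain ⟨y, hy, ey, hy1⟩ := hSv b hb
        have hxy : x.add y ∈ pos := hadd hx hy (by rw [ex]; exact ha.2) (by rw [ey]; exact hb.2)
          (by rw [ex, ey]; exact hab)
        rcases c2' hmc hR hx hy hxy hx1 hy1 with h | ⟨h, h'⟩
        · exact absurd h hall
        refine ⟨h, fun c hc habc => ?_⟩
        obtain ⟨w', hw', ew, hw1⟩ := hSv c hc
        refine h' w' hw' ?_ hw1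
        refine hadd hxy hw' ?_ (by rw [ew]; exact hc.2) ?_
        · rw [fn_add, ex, ey]; exact add_nonneg ha.2 hb.2
        · rw [fn_add, ex, ey, ew]; exact habc
      obtain ⟨a, ha, b, hb, hab⟩ := hsum
      have hcl : ∀ a ∈ S, ∀ b ∈ S, IsRoot cs RGDTwD4.hp.isCartan (a + b) → a + b ∈ S := by
        intro a ha b hb hab
        refine ⟨⟨hab, ?_⟩, add_nonneg ha.2 hb.2⟩
        rw [← cX_root RGDTwD4.hp cs htT hab, hmc.add, cX_root RGDTwD4.hp cs htT ha.1.1,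
          cX_root RGDTwD4.hp cs htT hb.1.1, ha.1.2, hb.1.2, one_mul]
      have h2 := exp_two cs hk p hSr hcl (fun a ha b hb c hc hab => (key a ha b hb hab).2 c hc) hU
      have h2' := exp_two' cs hk p hSr hcl (fun a ha b hb c hc hab => (key a ha b hb hab).2 c hc) hU
      refine ⟨⟨hupow _ h2', fun h => hupow 3 (h2.2 h)⟩, ?_⟩
      rcases (key a ha b hb hab).1 with h | h
      · left
        have h3 := hpow ((p ^ e) ^ 2 + p ^ e + 1) 0 fun j => by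
          rw [pow_add, pow_add, pow_one, pow_zero]
          exact h j
        rwa [pow_zero] at h3
      · right
        refine hpow _ _ fun j => ?_
        rw [pow_add, pow_one]
        exact h j
  · -- no sums
    right; right; left
    push Not at hsum
    refine ⟨hupow p (exp_one cs hk p hSr hsum hU), ?_⟩
    obtain ⟨x, hx, -, hx1⟩ := hSv a₀ ha₀
    rcases c1' hmc hR hx hx1 with h | h
    · left
      have h3 := hpow ((p ^ e) ^ 3) 1 fun j => by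
        rw [pow_one]
        exact h j
      rwa [pow_one] at h3
    · right
      have h3 := hpow ((p ^ e) ^ 3 + 1) 0 fun j => by
        rw [pow_add, pow_one, pow_zero]
        exact h j
      rwa [pow_zero] at h3

end Main

end Cfsg.Agent.H872.TD4
end

-- part: H872/TD4/Order
section
/-!
# TEAM TWOCYC (S3507), row `³D₄(q)`: element orders, any characteristic (helper872)

* `ob_tau` : the order of an element of `D₄(k)` fixed by the twisted Frobenius automorphism `tau k p e`;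
* `ob_tw` : the order of an element of `³D₄(q)`.
-/

set_option autoImplicit false
set_option linter.unusedSectionVars false

namespace Cfsg.Agent.H872.TD4

open Cfsg Cfsg.Lie Cfsg.Lie.ChevalleyDatum
open Cfsg.Agent.H129.TriD4 Cfsg.Agent.BpExc.TowChev Cfsg.Agent.H378

universe u

/-- the possible element orders of `³D₄(q)` -/
def OB (p q n : ℕ) : Prop :=
  n ∣ (q ^ 3 - 1) * (q + 1) ∨ n ∣ (q ^ 3 + 1) * (q - 1) ∨ n ∣ q ^ 4 - q ^ 2 + 1 ∨ n ∣ p ^ 3 ∨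
    n ∣ p * (q ^ 3 - 1) ∨ n ∣ p * (q ^ 3 + 1) ∨
    (n ∣ p * p * (q ^ 2 + q + 1) ∧ (p = 3 → n ∣ 3 * (q ^ 2 + q + 1))) ∨
    (n ∣ p * p * (q ^ 2 - q + 1) ∧ (p = 3 → n ∣ 3 * (q ^ 2 - q + 1)))

theorem dvd_of_pow_eq {G : Type*} [Group G] {s : G} {A B C : ℕ} (h : s ^ A = s ^ B) (e : A = B + C) :
    orderOf s ∣ C := by
  rw [e, pow_add] at h
  exact orderOf_dvd_of_pow_eq_one (mul_eq_left.1 h)

theorem ob_tau {k : Type u} [Field k] [IsAlgClosed k] {p e : ℕ} [hpf : Fact p.Prime] [CharP k p] (hk : LocFin k)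
    (hka : BpExc.TorAll.HAlg p k) (he : 0 < e) {a : ↥(chevD4.group k)} (hσa : tau k p e a = a)
    (hn0 : orderOf a ≠ 0) : OB p (p ^ e) (orderOf a) := by
  have hp : p.Prime := hpf.out
  obtain ⟨q, hq⟩ : ∃ q, q = p ^ e := ⟨_, rfl⟩
  have hq2 : 2 ≤ q := by
    rw [hq]
    exact hp.two_le.trans (Nat.le_self_pow he.ne' p)
  obtain ⟨j, m, hpm, hn⟩ := Nat.exists_eq_pow_mul_and_not_dvd hn0 p hp.ne_one
  have hm0 : m ≠ 0 := by
    rintro rfl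
    rw [mul_zero] at hn
    exact hn0 hn
  have hpj : 0 < p ^ j := pow_pos hp.pos j
  have hos : orderOf (a ^ p ^ j) = m := by
    rw [orderOf_pow' _ hpj.ne', hn, Nat.gcd_mul_right_left, Nat.mul_div_cancel_left _ hpj]
  have hou : orderOf (a ^ m) = p ^ j := by
    rw [orderOf_pow' _ hm0, hn, Nat.gcd_mul_left_left, Nat.mul_div_cancel _ (Nat.pos_of_ne_zero hm0)]
  have hmp : m.Coprime p := ((Nat.Prime.coprime_iff_not_dvd hp).2 hpm).symm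
  have key := pairs (k := k) (p := p) (e := e) hk hka (s := a ^ p ^ j) (u := a ^ m) (by rw [map_pow, hσa])
    (by rw [← pow_add, ← pow_add, add_comm]) hm0 hmp
    (by rw [← pow_mul, ← hn, pow_orderOf_eq_one]) (j := j)
    (by rw [← pow_mul, mul_comm, ← hn, pow_orderOf_eq_one])
  rw [← hq] at key ⊢
  obtain ⟨c, hc⟩ : ∃ c, q = c + 2 := ⟨q - 2, by omega⟩
  have e1 : q ^ 4 + q ^ 3 = (q + 1) + (q ^ 3 - 1) * (q + 1) := by
    obtain ⟨d, hd⟩ : ∃ d, q ^ 3 = d + 1 := ⟨q ^ 3 - 1, by have := Nat.one_le_pow 3 q (by omega); omega⟩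
    rw [show q ^ 4 = q ^ 3 * q by ring, hd, Nat.add_sub_cancel]; ring
  have e2 : q ^ 4 + q = (q ^ 3 + 1) + (q ^ 3 + 1) * (q - 1) := by
    rw [hc, show c + 2 - 1 = c + 1 by omega]; ring
  have e3 : q ^ 4 + 1 = q ^ 2 + (q ^ 4 - q ^ 2 + 1) := by
    have : q ^ 2 ≤ q ^ 4 := Nat.pow_le_pow_right (by omega) (by norm_num)
    omega
  have e4 : q ^ 2 + 1 = q + (q ^ 2 - q + 1) := by
    have : q ≤ q ^ 2 := by nlinarith only []
    (clear * - e1 this; omega)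
  have e5 : q ^ 3 = 1 + (q ^ 3 - 1) := by
    have := Nat.one_le_pow 3 q (by (clear * - hc; omega))
    (clear * - this; omega)
  rcases key with ⟨hu, hs⟩ | ⟨hs, hu⟩ | ⟨hu, hs⟩ | ⟨⟨hu2, hu3⟩, hs⟩
  · -- semisimple elements
    rw [hu, orderOf_one] at hou
    rw [hn, ← hou, one_mul, ← hos]
    rcases hs with hs | hs | hs
    · exact Or.inl (dvd_of_pow_eq hs e1)
    · exact Or.inr (Or.inl (dvd_of_pow_eq hs e2))
    · exact Or.inr (Or.inr (Or.inl (dvd_of_pow_eq hs e3)))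
  · -- unipotent elements
    rw [hs, orderOf_one] at hos
    rw [hn, ← hos, mul_one, ← hou]
    exact Or.inr (Or.inr (Or.inr (Or.inl (orderOf_dvd_of_pow_eq_one hu))))
  · have h1 : p ^ j ∣ p := hou ▸ orderOf_dvd_of_pow_eq_one hu
    rcases hs with hs | hs
    · have h2 : m ∣ q ^ 3 - 1 := hos ▸ dvd_of_pow_eq (B := 1) (by rw [pow_one]; exact hs) e5
      rw [hn]
      exact Or.inr (Or.inr (Or.inr (Or.inr (Or.inl (mul_dvd_mul h1 h2)))))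
    · have h2 : m ∣ q ^ 3 + 1 := hos ▸ orderOf_dvd_of_pow_eq_one hs
      rw [hn]
      exact Or.inr (Or.inr (Or.inr (Or.inr (Or.inr (Or.inl (mul_dvd_mul h1 h2))))))
  · have h1 : p ^ j ∣ p * p := hou ▸ orderOf_dvd_of_pow_eq_one hu2
    have h3 : p = 3 → p ^ j ∣ 3 := fun h => hou ▸ orderOf_dvd_of_pow_eq_one (hu3 h)
    rcases hs with hs | hs
    · have h2 : m ∣ q ^ 2 + q + 1 := hos ▸ orderOf_dvd_of_pow_eq_one hs
      rw [hn]
      exact Or.inr (Or.inr (Or.inr (Or.inr (Or.inr (Or.inr (Or.inl ⟨mul_dvd_mul h1 h2,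
        fun h => mul_dvd_mul (h3 h) h2⟩))))))
    · have h2 : m ∣ q ^ 2 - q + 1 := hos ▸ dvd_of_pow_eq hs e4
      rw [hn]
      exact Or.inr (Or.inr (Or.inr (Or.inr (Or.inr (Or.inr (Or.inr ⟨mul_dvd_mul h1 h2,
        fun h => mul_dvd_mul (h3 h) h2⟩))))))

/-- **Element orders of `³D₄(q)`.** -/
theorem ob_tw {K : Type u} [Field K] [Fintype K] {q : ℕ} (hq : IsPrimePow q) (hK : Fintype.card K = q ^ 3)
    (g : ↥(twistedD4 K q)) : ∃ p f, p.Prime ∧ 0 < f ∧ q = p ^ f ∧ OB p q (orderOf g) := by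
  obtain ⟨k, _, _, f, p, _, hC, _, hk, hka, -, -⟩ := TorFin.exists_closure K
  have hp : p.Prime := Fact.out
  obtain ⟨p', e, hp', he, hqe⟩ := id hq
  have hK' : CharP K p := (RingHom.charP_iff f f.injective p).2 hC
  have hpp : p' = p := by
    obtain ⟨n, hp1, hn⟩ := FiniteField.card K p
    have h1 : p' ∣ p ^ (n : ℕ) := by
      rw [← hn, hK, ← hqe]
      exact dvd_pow (dvd_pow_self p' he.ne') (by norm_num)
    exact (Nat.prime_dvd_prime_iff_eq hp'.nat_prime hp).1 (hp'.nat_prime.dvd_of_dvd_pow h1)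
  subst hpp
  have hqe' : q = p' ^ e := hqe.symm
  set a := embT (k := k) f hq hK g with ha
  have hσa : tau k p' e a = a := tau_embT f hqe' hq hK g
  have hoa : orderOf a = orderOf g := orderOf_injective _ (embT_injective f hq hK) g
  have hn0 : orderOf a ≠ 0 := by rw [hoa]; exact ((orderOf_pos g).ne' :)
  refine ⟨p', e, hp, he, hqe', ?_⟩
  rw [← hoa, hqe']
  exact ob_tau hk hka he hσa hn0

end Cfsg.Agent.H872.TD4
end

-- part: H872/TD4/Aut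
section
/-!
# TEAM TWOCYC (S3507), row `³D₄(q)`: automorphisms (helper872)

* `exists_conj_field` : every automorphism of `³D₄(q)` is inner times a field automorphism;
* `index_inn` : `|Out| = 3 f`, `q = p ^ f`;
* `ob_descend` : `q = p ^ 2`; an element `x` of `³D₄(q)` with `g τ(x) g⁻¹ = x`, `τ` the inverse of the Frobenius
  automorphism `a ↦ a ^ p`, has the order of an element of `³D₄(p)`.
-/

set_option autoImplicit false
set_option linter.unusedSectionVars false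

namespace Cfsg.Agent.H872.TD4

open Cfsg Cfsg.Lie Cfsg.Lie.ChevalleyDatum
open Cfsg.Agent.ChevalleyStructure
open Cfsg.Agent.H129.TriD4 Cfsg.Agent.BpExc.TowChev Cfsg.Agent.H378
open Cfsg.Agent.H967.CopMat Cfsg.Agent.H967.CopTw
open Cfsg.Agent.GpExc.Field (glMap emb coe_emb)

universe u

section Out

variable {K : Type u} [Field K] [Fintype K] {q : ℕ}

theorem exists_conj_field (hq : IsPrimePow q) (hK : Fintype.card K = q ^ 3) (ψ : MulAut ↥(twistedD4 K q)) :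
    ∃ (g : ↥(twistedD4 K q)) (σ : K ≃+* K), ψ = MulAut.conj g * fieldAut (stab_d4 q) σ := by
  obtain ⟨p, hp⟩ := CharP.exists K
  have : Fact p.Prime := ⟨CharP.char_is_prime K p⟩
  let F : (K ≃+* K) →* Cfsg.Out ↥(twistedD4 K q) :=
    (QuotientGroup.mk' (Cfsg.Inn ↥(twistedD4 K q))).comp (fieldAut (stab_d4 q))
  have hinj : Function.Injective F := by
    rw [injective_iff_map_eq_one]
    intro σ hσ
    by_contra h1
    exact H967.FaTw.not_inner_d4 hq hK σ h1 ((QuotientGroup.eq_one_iff _).1 hσ)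
  have hcard : Nat.card (Cfsg.Out ↥(twistedD4 K q)) = Nat.card (K ≃+* K) := H69.OutTwD4.card_out hq hK p
  have hfin : Finite (K ≃+* K) := Finite.of_injective (fun f : K ≃+* K => (f : K → K)) DFunLike.coe_injective
  have hfinA : Finite (MulAut ↥(twistedD4 K q)) :=
    Finite.of_injective (fun α : MulAut ↥(twistedD4 K q) => (α : ↥(twistedD4 K q) → ↥(twistedD4 K q)))
      DFunLike.coe_injective
  have hfO : Finite (Cfsg.Out ↥(twistedD4 K q)) := inferInstance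
  have hs : Function.Surjective F := ((Nat.bijective_iff_injective_and_card F).2 ⟨hinj, hcard.symm⟩).2
  obtain ⟨σ, hσ⟩ := hs (QuotientGroup.mk' _ ψ)
  have h1 : (fieldAut (stab_d4 q) σ)⁻¹ * ψ ∈ Cfsg.Inn ↥(twistedD4 K q) := QuotientGroup.eq.1 hσ
  obtain ⟨g, hg⟩ := h1
  refine ⟨fieldAut (stab_d4 q) σ g, σ, ?_⟩
  have h2 : ψ = fieldAut (stab_d4 q) σ * MulAut.conj g := by rw [hg, mul_inv_cancel_left]
  rw [h2]
  ext1 y
  show fieldAut (stab_d4 q) σ (g * y * g⁻¹) = fieldAut (stab_d4 q) σ g * fieldAut (stab_d4 q) σ y *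
    (fieldAut (stab_d4 q) σ g)⁻¹
  rw [map_mul, map_mul, map_inv]

theorem index_inn {p f : ℕ} (hp : p.Prime) (hf : 0 < f) (hK : Fintype.card K = (p ^ f) ^ 3) :
    (MulAut.conj : ↥(twistedD4 K (p ^ f)) →* MulAut ↥(twistedD4 K (p ^ f))).range.index = 3 * f := by
  have : Fact p.Prime := ⟨hp⟩
  have hc : CharP K p := by
    refine H967.CopSz.charP_of_card hp (n := f * 3) ?_
    rw [hK, ← pow_mul]
  have h1 : Nat.card (Cfsg.Out ↥(twistedD4 K (p ^ f))) = 3 * f := by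
    rw [H69.OutTwD4.card_out (hp.isPrimePow.pow hf.ne') hK p, H166.FieldAut.card_ringAut p (3 * f)]
    rw [hK, ← pow_mul, mul_comm]
  exact h1

end Out

section Descend

variable {K : Type u} [Field K] [Fintype K]

theorem sig_glMap {k : Type u} [Field k] (φ ψ : k →+* k) (g : GL chevD4.Idx k) :
    D4Fixed.sig φ (glMap chevD4 ψ g) = D4Fixed.sig (φ.comp ψ) g := by
  apply Units.ext
  rw [D4Fixed.coe_sig, D4Fixed.coe_sig]
  rfl

/-- **Descent.** -/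
theorem ob_descend {p : ℕ} (hp : p.Prime) {q : ℕ} (hqp : q = p ^ 2) (hq : IsPrimePow q)
    (hK : Fintype.card K = q ^ 3) {τ : K ≃+* K} (hτ : ∀ a, τ a ^ p = a) {g x : ↥(twistedD4 K q)}
    (hx : g * fieldAut (stab_d4 q) τ x * g⁻¹ = x) : OB p p (orderOf x) := by
  obtain ⟨k, _, _, f, p', _, hC, _, hk, hka, -, -⟩ := TorFin.exists_closure K
  have hp' : p'.Prime := Fact.out
  have hK' : CharP K p' := (RingHom.charP_iff f f.injective p').2 hC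
  have hpp : p = p' := by
    obtain ⟨n, hp1, hn⟩ := FiniteField.card K p'
    have h1 : p ∣ p' ^ (n : ℕ) := by
      rw [← hn, hK, hqp]
      exact dvd_pow (dvd_pow_self p (by norm_num)) (by norm_num)
    exact (Nat.prime_dvd_prime_iff_eq hp hp').1 (hp.dvd_of_dvd_pow h1)
  subst hpp
  have hx1 := tau_embT (k := k) (p := p) (e := 2) f hqp hq hK (fieldAut (stab_d4 q) τ x)
  -- `tau k p 1` acts as `τ`
  have h1 : tau k p 1 (embT f hq hK x) = embT f hq hK (fieldAut (stab_d4 q) τ x) := by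
    rw [← hx1]
    apply Subtype.ext
    rw [coe_tau, coe_tau, coe_embT, coe_embT]
    have h2 : glMap chevD4 f (x : GL chevD4.Idx K) =
        glMap chevD4 (iterateFrobenius k p 1) (glMap chevD4 f (fieldAut (stab_d4 q) τ x : ↥(twistedD4 K q))) := by
      apply Units.ext
      ext i j
      show f ((x : GL chevD4.Idx K) i j) = iterateFrobenius k p 1 (f (τ ((x : GL chevD4.Idx K) i j)))
      rw [iterateFrobenius_def, pow_one, ← map_pow, hτ]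
    rw [h2, sig_glMap]
    have h3 : (iterateFrobenius k p 1).comp (iterateFrobenius k p 1) = iterateFrobenius k p 2 := by
      ext a
      rw [RingHom.comp_apply, iterateFrobenius_def, iterateFrobenius_def, iterateFrobenius_def, ← pow_mul, pow_one,
        pow_two]
    rw [h3]
  obtain ⟨z, hz⟩ := BpExc.LangFr.lang_all Nodes.RGDTwD4.hp coxeterD4.toCoxeterSystem (e := 1) one_pos
    (isFrob_tau (k := k) (p := p)) (fr_tau coxeterD4.toCoxeterSystem) 1 (embT f hq hK g)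
  rw [map_one, one_mul] at hz
  have h4 : embT f hq hK g * tau k p 1 (embT f hq hK x) * (embT f hq hK g)⁻¹ = embT f hq hK x := by
    rw [h1, ← map_mul, ← map_inv, ← map_mul, hx]
  have h5 : tau k p 1 (z * embT f hq hK x * z⁻¹) = z * embT f hq hK x * z⁻¹ := by
    rw [map_mul, map_mul, map_inv]
    rw [hz] at h4
    calc tau k p 1 z * tau k p 1 (embT f hq hK x) * (tau k p 1 z)⁻¹
        = z * (z⁻¹ * tau k p 1 z * tau k p 1 (embT f hq hK x) * (z⁻¹ * tau k p 1 z)⁻¹) * z⁻¹ := by group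
      _ = _ := by rw [h4]
  have h6 : orderOf (z * embT f hq hK x * z⁻¹) = orderOf x := by
    have h7 := orderOf_injective (MulAut.conj z).toMonoidHom (MulAut.conj z).injective (embT f hq hK x)
    rw [MulEquiv.coe_toMonoidHom, MulAut.conj_apply] at h7
    rw [h7, orderOf_injective _ (embT_injective f hq hK)]
  have h8 := ob_tau (e := 1) hk hka one_pos h5 (by rw [h6]; exact ((orderOf_pos x).ne' :))
  rw [h6, pow_one] at h8
  exact h8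

end Descend

end Cfsg.Agent.H872.TD4
end

-- part: H872/TD4/Arith
section
/-!
# TEAM TWOCYC (S3507), row `³D₄(q)`: arithmetic (helper872)
-/

set_option autoImplicit false

namespace Cfsg.Agent.H872.TD4

theorem ob_two {n : ℕ} (h : OB 2 2 n) : n ≤ 28 := by
  unfold OB at h
  norm_num only [_root_.IsEmpty.forall_iff, _root_.and_true] at h
  rcases h with h | h | h | h | h | h | h | h <;>
  · have := Nat.le_of_dvd (by norm_num) h
    omega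

theorem ob_four {n : ℕ} (h : OB 2 4 n) : n ≤ 315 := by
  unfold OB at h
  norm_num only [_root_.IsEmpty.forall_iff, _root_.and_true] at h
  rcases h with h | h | h | h | h | h | h | h <;>
  · have := Nat.le_of_dvd (by norm_num) h
    omega

/-- `2 f ≤ q - 1` -/
theorem two_mul_le {p f : ℕ} (hp : p.Prime) (hf : 0 < f) (h2 : p ^ f ≠ 2) (h4 : p ^ f ≠ 4) : 2 * f + 1 ≤ p ^ f := by
  rcases Nat.lt_or_ge f 3 with h | h
  · have h2p := hp.two_le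
    interval_cases f
    · rw [pow_one] at h2 ⊢
      have : p ≠ 2 := h2
      omega
    · have h3 : p ≠ 2 := by rintro rfl; exact h4 rfl
      have h5 : 3 ≤ p := by omega
      nlinarith
  · have h5 : 2 ^ f ≤ p ^ f := Nat.pow_le_pow_left hp.two_le f
    refine le_trans ?_ h5
    clear h5 h2 h4
    induction f, h using Nat.le_induction with
    | base => norm_num
    | succ n hn ih =>
      have h6 := ih (by omega)
      rw [pow_succ]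
      omega

theorem ob_le_aux {p f q n : ℕ} (hp2 : 2 ≤ p) (hf : 0 < f) (hb : 2 * f + 1 ≤ q) (hpq : p ≤ q)
    (hf1 : f = 1 ∧ q = p ∨ 2 * p ≤ q ∧ p * p ≤ q) (h4 : q ≠ 4) (h : OB p q n) :
    2 * f * n ≤ q * (q ^ 4 - q ^ 2 + 1) := by
  have hq3 : 3 ≤ q := by omega
  have hpow : ∀ m, 0 < q ^ m := fun m => pow_pos (by omega) m
  have h24 : q ^ 2 ≤ q ^ 4 := Nat.pow_le_pow_right (by omega) (by norm_num)
  have e0 : q * (q ^ 4 - q ^ 2 + 1) + q ^ 3 = q ^ 5 + q := by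
    obtain ⟨d, hd⟩ : ∃ d, q ^ 4 = q ^ 2 + d := ⟨q ^ 4 - q ^ 2, by omega⟩
    have : q ^ 5 = q * (q ^ 2 + d) := by rw [← hd]; ring
    rw [this, hd, Nat.add_sub_cancel_left]
    ring
  have h45 : 3 * q ^ 4 ≤ q ^ 5 := by rw [pow_succ q 4, mul_comm]; exact Nat.mul_le_mul_left _ hq3
  have h34 : 3 * q ^ 3 ≤ q ^ 4 := by rw [pow_succ q 3, mul_comm]; exact Nat.mul_le_mul_left _ hq3
  have h23 : 3 * q ^ 2 ≤ q ^ 3 := by rw [pow_succ q 2, mul_comm]; exact Nat.mul_le_mul_left _ hq3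
  have h12 : 3 * q ≤ q ^ 2 := by rw [pow_two]; exact Nat.mul_le_mul_right _ hq3
  have hg : 2 * f ≤ q - 1 := by omega
  have key : ∀ B : ℕ, 0 < B → n ∣ B → 2 * f * B + q ^ 3 ≤ q ^ 5 + q → 2 * f * n ≤ q * (q ^ 4 - q ^ 2 + 1) := by
    intro B hB hd h5
    have h6 := Nat.le_of_dvd hB hd
    have h7 : 2 * f * n ≤ 2 * f * B := Nat.mul_le_mul_left _ h6
    omega
  obtain ⟨c, hc⟩ : ∃ c, q = c + 1 := ⟨q - 1, by omega⟩
  have hqc : q - 1 = c := by omega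
  -- from `2 f ≤ q - 1`
  have key2 : ∀ B : ℕ, 0 < B → n ∣ B → (q - 1) * B + q ^ 3 ≤ q ^ 5 + q → 2 * f * n ≤ q * (q ^ 4 - q ^ 2 + 1) := by
    intro B hB hd h5
    refine key B hB hd ?_
    have h7 : 2 * f * B ≤ (q - 1) * B := Nat.mul_le_mul_right _ hg
    omega
  have e1 : q ^ 3 - 1 = (q - 1) * (q ^ 2 + q + 1) := by
    rw [hqc, hc]
    apply Nat.sub_eq_of_eq_add
    ring
  rcases h with h | h | h | h | h | h | ⟨h, h'⟩ | ⟨h, h'⟩
  · refine key2 _ ?_ h ?_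
    · have : 0 < q ^ 3 - 1 := by have := hpow 2; omega
      exact Nat.mul_pos this (by omega)
    · rw [e1, hqc, hc]
      linarith only [_root_.sq_nonneg (↑c : ℤ)]
  · refine key2 _ ?_ h ?_
    · exact Nat.mul_pos (by omega) (by omega)
    · rw [hqc, hc]
      have : 2 ≤ c := by omega
      linarith only [pow_pos (show 0 < c by omega) 3, _root_.mul_self_nonneg (↑c ^ 2 : ℤ), _root_.sq_nonneg (↑c : ℤ)]
  · refine key2 _ (by omega) h ?_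
    have : (q - 1) * (q ^ 4 - q ^ 2 + 1) ≤ q * (q ^ 4 - q ^ 2 + 1) := Nat.mul_le_mul_right _ (by omega)
    omega
  · refine key2 _ (pow_pos (by omega) 3) h ?_
    have h5 : p ^ 3 ≤ q ^ 3 := Nat.pow_le_pow_left hpq 3
    have h6 : (q - 1) * p ^ 3 ≤ (q - 1) * q ^ 3 := Nat.mul_le_mul_left _ h5
    have h7 : (q - 1) * q ^ 3 + q ^ 3 = q ^ 4 := by rw [hqc, hc]; ring
    omega
  · have h0 : 0 < q ^ 3 - 1 := by have := hpow 2; omega
    refine key _ (Nat.mul_pos (by omega) h0) h ?_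
    rcases hf1 with ⟨h5, h5'⟩ | ⟨h5, -⟩
    · rw [h5, ← h5']
      have h6 : q * (q ^ 3 - 1) ≤ q ^ 4 := by
        calc q * (q ^ 3 - 1) ≤ q * q ^ 3 := Nat.mul_le_mul_left _ (by omega)
          _ = q ^ 4 := by ring
      omega
    · have h6 : 2 * (2 * f * (p * (q ^ 3 - 1))) ≤ (q - 1) * (q * (q ^ 3 - 1)) := by
        calc 2 * (2 * f * (p * (q ^ 3 - 1))) = 2 * f * (2 * p * (q ^ 3 - 1)) := by ring
          _ ≤ (q - 1) * (q * (q ^ 3 - 1)) := Nat.mul_le_mul hg (Nat.mul_le_mul_right _ h5)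
      have h7 : (q - 1) * (q * (q ^ 3 - 1)) ≤ q ^ 5 := by
        calc (q - 1) * (q * (q ^ 3 - 1)) ≤ q * (q * q ^ 3) :=
              Nat.mul_le_mul (by omega) (Nat.mul_le_mul_left _ (by omega))
          _ = q ^ 5 := by ring
      (clear * - h45 h34 h6 h7; omega)
  · refine key _ (by positivity) h ?_
    rcases hf1 with ⟨h5, h5'⟩ | ⟨h5, -⟩
    · rw [h5, ← h5']
      have h6 : q * (q ^ 3 + 1) = q ^ 4 + q := by ring
      (clear * - h45 h34 h23 h12 h6; omega)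
    · have h6 : 2 * (2 * f * (p * (q ^ 3 + 1))) ≤ (q - 1) * (q * (q ^ 3 + 1)) := by
        calc 2 * (2 * f * (p * (q ^ 3 + 1))) = 2 * f * (2 * p * (q ^ 3 + 1)) := by ring
          _ ≤ (q - 1) * (q * (q ^ 3 + 1)) := Nat.mul_le_mul hg (Nat.mul_le_mul_right _ h5)
      have h7 : (q - 1) * (q * (q ^ 3 + 1)) + (q ^ 4 + q) = q ^ 5 + q ^ 2 := by
        rw [hqc, hc]; ring
      (clear * - h34 h23 h6 h7; omega)
  · by_cases h3 : p = 3
    · refine key2 _ (by positivity) (h' h3) ?_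
      have h6 : (q - 1) * (3 * (q ^ 2 + q + 1)) = 3 * (q ^ 3 - 1) := by rw [e1]; ring
      (clear * - h45 h34 h6; omega)
    · rcases hf1 with ⟨h5, h5'⟩ | ⟨-, h5⟩
      · refine key _ (by positivity) h ?_
        rw [h5, ← h5']
        have hq5 : 5 ≤ q := by (clear * - h4 hq3 h3 h5'; omega)
        have h55 : 5 * q ^ 4 ≤ q ^ 5 := by rw [pow_succ q 4, mul_comm]; exact Nat.mul_le_mul_left _ hq5
        have h6 : q * q * (q ^ 2 + q + 1) = q ^ 4 + q ^ 3 + q ^ 2 := by ring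
        (clear * - h24 h34 h55 h6; omega)
      · refine key2 _ (by positivity) h ?_
        have h6 : (q - 1) * (p * p * (q ^ 2 + q + 1)) ≤ q * (q ^ 3 - 1) := by
          calc (q - 1) * (p * p * (q ^ 2 + q + 1)) = p * p * ((q - 1) * (q ^ 2 + q + 1)) := by ring
            _ = p * p * (q ^ 3 - 1) := by rw [e1]
            _ ≤ q * (q ^ 3 - 1) := Nat.mul_le_mul_right _ h5
        have h7 : q * (q ^ 3 - 1) ≤ q ^ 4 := by
          calc q * (q ^ 3 - 1) ≤ q * q ^ 3 := Nat.mul_le_mul_left _ (by omega)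
            _ = q ^ 4 := by ring
        (clear * - h45 h34 h6 h7; omega)
  · have h8 : q ^ 2 - q + 1 ≤ q ^ 2 + q + 1 := by omega
    by_cases h3 : p = 3
    · refine key2 _ (by positivity) (h' h3) ?_
      have h6 : (q - 1) * (3 * (q ^ 2 - q + 1)) ≤ 3 * (q ^ 3 - 1) := by
        rw [e1]
        calc (q - 1) * (3 * (q ^ 2 - q + 1)) ≤ (q - 1) * (3 * (q ^ 2 + q + 1)) :=
              Nat.mul_le_mul_left _ (Nat.mul_le_mul_left _ h8)
          _ = 3 * ((q - 1) * (q ^ 2 + q + 1)) := by ring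
      (clear * - h45 h34 h6; omega)
    · rcases hf1 with ⟨h5, h5'⟩ | ⟨-, h5⟩
      · refine key _ (Nat.mul_pos (Nat.mul_pos (by omega) (by omega)) (by omega)) h ?_
        rw [h5, ← h5']
        have hq5 : 5 ≤ q := by (clear * - h4 hq3 h3 h5'; omega)
        have h55 : 5 * q ^ 4 ≤ q ^ 5 := by rw [pow_succ q 4, mul_comm]; exact Nat.mul_le_mul_left _ hq5
        have h6 : q * q * (q ^ 2 - q + 1) ≤ q * q * (q ^ 2 + q + 1) := Nat.mul_le_mul_left _ h8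
        have h7 : q * q * (q ^ 2 + q + 1) = q ^ 4 + q ^ 3 + q ^ 2 := by ring
        (clear * - h24 h34 h55 h6 h7; omega)
      · refine key2 _ (Nat.mul_pos (Nat.mul_pos (by omega) (by omega)) (by omega)) h ?_
        have h6 : (q - 1) * (p * p * (q ^ 2 - q + 1)) ≤ q * (q ^ 3 - 1) := by
          calc (q - 1) * (p * p * (q ^ 2 - q + 1)) ≤ (q - 1) * (p * p * (q ^ 2 + q + 1)) :=
                Nat.mul_le_mul_left _ (Nat.mul_le_mul_left _ h8)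
            _ = p * p * ((q - 1) * (q ^ 2 + q + 1)) := by ring
            _ = p * p * (q ^ 3 - 1) := by rw [e1]
            _ ≤ q * (q ^ 3 - 1) := Nat.mul_le_mul_right _ h5
        have h7 : q * (q ^ 3 - 1) ≤ q ^ 4 := by
          calc q * (q ^ 3 - 1) ≤ q * q ^ 3 := Nat.mul_le_mul_left _ (by (clear * -; omega))
            _ = q ^ 4 := by ring
        (clear * - h45 h34 h6 h7; omega)

/-- **The bound.** -/
theorem ob_le {p f n : ℕ} (hp : p.Prime) (hf : 0 < f) (h2 : p ^ f ≠ 2) (h4 : p ^ f ≠ 4) (h : OB p (p ^ f) n) :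
    2 * f * n ≤ p ^ f * ((p ^ f) ^ 4 - (p ^ f) ^ 2 + 1) := by
  refine ob_le_aux hp.two_le hf (two_mul_le hp hf h2 h4) (Nat.le_self_pow hf.ne' p) ?_ h4 h
  rcases Nat.lt_or_ge f 2 with h5 | h5
  · left
    have : f = 1 := by omega
    exact ⟨this, by rw [this, pow_one]⟩
  · right
    have h6 : p ^ 2 ≤ p ^ f := Nat.pow_le_pow_right hp.pos h5
    rw [pow_two] at h6
    exact ⟨(Nat.mul_le_mul_right p hp.two_le).trans h6, h6⟩

end Cfsg.Agent.H872.TD4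
end

-- part: H872/TD4/Mo
section
/-!
# TEAM TWOCYC (S3507), row `³D₄(q)`: orders of automorphisms (helper872)

* `smC_gen` : `SmC ³D₄(q)`, `q ≠ 2, 4`;
* `smC_four` : `SmC ³D₄(4)`;
* `mo_two` : `Mo ³D₄(2) 84`.
-/

set_option autoImplicit false
set_option linter.unusedSectionVars false

namespace Cfsg.Agent.H872.TD4

open Cfsg Cfsg.Lie Cfsg.Lie.ChevalleyDatum
open Cfsg.Agent.ChevalleyStructure
open Cfsg.Agent.H967.CopMat Cfsg.Agent.H967.CopTw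
open Cfsg.Agent.H384.Cyc

universe u

variable {K : Type u} [Field K] [Fintype K]

theorem md {q : ℕ} (hq : IsPrimePow q) (hK : Fintype.card K = q ^ 3) :
    H954.OutDeg.MD ↥(twistedD4 K q) (q * (q ^ 4 - q ^ 2 + 1)) :=
  md_of_rep (MonoidHom.id _) Function.surjective_id fun k ρ hρ hk => S2342.result q hq hK k ρ hρ hk

theorem ob_pf {p f : ℕ} (hp : p.Prime) (hf : 0 < f) (hK : Fintype.card K = (p ^ f) ^ 3)
    (g : ↥(twistedD4 K (p ^ f))) : OB p (p ^ f) (orderOf g) := by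
  obtain ⟨p', f', hp', hf', hqe, h⟩ := ob_tw (hp.isPrimePow.pow hf.ne') hK g
  have h1 : p = p' := by
    have h2 : p ∣ p' ^ f' := by rw [← hqe]; exact dvd_pow_self p hf.ne'
    exact (Nat.prime_dvd_prime_iff_eq hp hp').1 (hp.dvd_of_dvd_pow h2)
  subst h1
  exact h

theorem orderOf_conj_le {G : Type*} [Group G] [Finite G] (t : G) :
    orderOf (MulAut.conj t) ≤ orderOf t :=
  Nat.le_of_dvd (orderOf_pos t) (orderOf_map_dvd (MulAut.conj : G →* MulAut G) t)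

theorem mo_gen {p f m : ℕ} (hp : p.Prime) (hf : 0 < f) (hK : Fintype.card K = (p ^ f) ^ 3)
    (h : ∀ n, OB p (p ^ f) n → n ≤ m) : Mo ↥(twistedD4 K (p ^ f)) (3 * f * m) := by
  refine mo_of_index (MulAut.conj : ↥(twistedD4 K (p ^ f)) →* MulAut ↥(twistedD4 K (p ^ f))).range
    (index_inn hp hf hK).le ?_
  rintro _ ⟨t, rfl⟩
  exact (orderOf_conj_le t).trans (h _ (ob_pf hp hf hK t))

theorem smC_gen {p f : ℕ} (hp : p.Prime) (hf : 0 < f) (hK : Fintype.card K = (p ^ f) ^ 3) (h2 : p ^ f ≠ 2)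
    (h4 : p ^ f ≠ 4) : SmC ↥(twistedD4 K (p ^ f)) := by
  obtain ⟨δ, hδ⟩ : ∃ δ, δ = p ^ f * ((p ^ f) ^ 4 - (p ^ f) ^ 2 + 1) := ⟨_, rfl⟩
  refine ⟨3 * f * (δ / (2 * f)), δ, mo_gen hp hf hK fun n hn => ?_, hδ ▸ md (hp.isPrimePow.pow hf.ne') hK, ?_⟩
  · rw [Nat.le_div_iff_mul_le (by omega), mul_comm, hδ]
    exact ob_le hp hf h2 h4 hn
  · have h5 : 2 * f * (δ / (2 * f)) ≤ δ := Nat.mul_div_le δ (2 * f)
    calc 2 * (3 * f * (δ / (2 * f))) = 3 * (2 * f * (δ / (2 * f))) := by ring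
      _ ≤ 3 * δ := Nat.mul_le_mul_left _ h5

theorem mo_two (hK : Fintype.card K = 2 ^ 3) : Mo ↥(twistedD4 K 2) 84 := by
  have h := mo_gen (K := K) (p := 2) (f := 1) (m := 28) Nat.prime_two one_pos (by rw [pow_one]; exact hK)
    (fun n hn => ob_two (by rwa [pow_one] at hn))
  rw [pow_one] at h
  exact h

/-! ### `q = 4` -/

section Four

theorem exists_frob_six (hK : Fintype.card K = 4 ^ 3) :
    ∃ F : K ≃+* K, (∀ a, F a = a ^ 2) ∧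
    ∀ σ : K ≃+* K, ∃ n < 6, σ = F ^ n := by
  classical
  have : Fact (Nat.Prime 2) := ⟨Nat.prime_two⟩
  have hK' : Fintype.card K = 2 ^ 6 := by rw [hK]; norm_num
  have hc : CharP K 2 := H967.CopSz.charP_of_card Nat.prime_two hK'
  obtain ⟨F, hF⟩ : ∃ F : K ≃+* K, ∀ a, F a = a ^ 2 :=
    ⟨RingEquiv.ofBijective (frobenius K 2) (Finite.injective_iff_bijective.1 (frobenius K 2).injective),
      fun a => rfl⟩
  have hcard : Nat.card (K ≃+* K) = 6 := H166.FieldAut.card_ringAut 2 6 hK'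
  have hfin : Finite (K ≃+* K) := Nat.finite_of_card_ne_zero (by rw [hcard]; norm_num)
  have hpow : ∀ n : ℕ, ∀ a, (F ^ n) a = a ^ 2 ^ n := by
    intro n
    induction n with
    | zero => intro a; rw [pow_zero, pow_zero, pow_one]; rfl
    | succ n ih =>
      intro a
      rw [pow_succ, RingAut.mul_apply, ih, hF, ← pow_mul, pow_succ, mul_comm]
  obtain ⟨x, hx⟩ := IsCyclic.exists_generator (α := Kˣ)
  have hox : orderOf x = 63 := by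
    rw [orderOf_eq_card_of_forall_mem_zpowers hx, Nat.card_units, Nat.card_eq_fintype_card, hK]
    norm_num
  have hno : ∀ n, 0 < n → n < 6 → F ^ n ≠ 1 := by
    intro n hn hn6 h
    have h1 := hpow n (x : K)
    rw [h] at h1
    have h2 : x ^ 2 ^ n = x := Units.ext (by rw [Units.val_pow_eq_pow_val]; exact h1.symm)
    have h3 : x ^ (2 ^ n - 1) = 1 := by
      have h4 : 2 ^ n = 2 ^ n - 1 + 1 := by have := Nat.one_le_two_pow (n := n); omega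
      rw [h4, pow_succ] at h2
      exact mul_eq_right.1 h2
    have h4 := orderOf_dvd_of_pow_eq_one h3
    rw [hox] at h4
    have h5 := Nat.le_of_dvd (by have := Nat.one_lt_two_pow hn.ne'; omega) h4
    have h6 : 2 ^ n ≤ 2 ^ 5 := Nat.pow_le_pow_right (by norm_num) (by omega)
    omega
  have hord : orderOf F = 6 := by
    have h1 : orderOf F ∣ 6 := hcard ▸ orderOf_dvd_natCard F
    have h2 : 0 < orderOf F := orderOf_pos F
    have h3 := Nat.le_of_dvd (by norm_num) h1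
    by_contra h4
    exact hno (orderOf F) h2 (by omega) (pow_orderOf_eq_one F)
  refine ⟨F, hF, fun σ => ?_⟩
  have htop : Subgroup.zpowers F = ⊤ := by
    apply Subgroup.eq_top_of_card_eq
    rw [Nat.card_zpowers, hord, hcard]
  have hσ : σ ∈ Subgroup.zpowers F := by rw [htop]; exact Subgroup.mem_top σ
  rw [← mem_powers_iff_mem_zpowers, mem_powers_iff_mem_range_orderOf] at hσ
  obtain ⟨n, hn, e⟩ := Finset.mem_image.1 hσ
  rw [Finset.mem_range, hord] at hn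
  exact ⟨n, hn, e.symm⟩

theorem conj_injective {q : ℕ} (hq : IsPrimePow q) (hK : Fintype.card K = q ^ 3) :
    Function.Injective (MulAut.conj : ↥(twistedD4 K q) →* MulAut ↥(twistedD4 K q)) := by
  rw [injective_iff_map_eq_one]
  intro t ht
  have h1 : t ∈ Subgroup.center ↥(twistedD4 K q) := by
    rw [Subgroup.mem_center_iff]
    intro g
    have h2 := congrArg (fun α : MulAut ↥(twistedD4 K q) => α g) ht
    have h3 : t * g * t⁻¹ = g := by simpa only [_root_.MulAut.conj_apply, _root_.MulAut.one_apply] using h2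
    rw [mul_inv_eq_iff_eq_mul] at h3
    exact h3.symm
  rw [H69.OutTwD4.center_eq_bot hq hK] at h1
  exact Subgroup.mem_bot.1 h1

/-- powers modulo the inner automorphisms -/
theorem pow_mem_inn {q : ℕ} {g : ↥(twistedD4 K q)} {σ : K ≃+* K} {n : ℕ} (h : σ ^ n = 1) :
    (MulAut.conj g * fieldAut (stab_d4 q) σ) ^ n ∈
      (MulAut.conj : ↥(twistedD4 K q) →* MulAut ↥(twistedD4 K q)).range := by
  have hn : ((MulAut.conj : ↥(twistedD4 K q) →* MulAut ↥(twistedD4 K q)).range).Normal :=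
    inferInstanceAs (Cfsg.Inn ↥(twistedD4 K q)).Normal
  rw [← QuotientGroup.eq_one_iff, QuotientGroup.mk_pow, QuotientGroup.mk_mul]
  have h1 : (QuotientGroup.mk (MulAut.conj g) : MulAut ↥(twistedD4 K q) ⧸
      (MulAut.conj : ↥(twistedD4 K q) →* MulAut ↥(twistedD4 K q)).range) = 1 :=
    (QuotientGroup.eq_one_iff _).2 ⟨g, rfl⟩
  rw [h1, one_mul, ← QuotientGroup.mk_pow, ← map_pow, h, map_one, QuotientGroup.mk_one]

/-- the fixed inner part -/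
theorem fix_of_pow {q : ℕ} (hq : IsPrimePow q) (hK : Fintype.card K = q ^ 3) {α : MulAut ↥(twistedD4 K q)} {n : ℕ}
    {x : ↥(twistedD4 K q)} (h : MulAut.conj x = α ^ n) : α x = x := by
  apply conj_injective hq hK
  have h1 : MulAut.conj (α x) = α * MulAut.conj x * α⁻¹ := by
    ext1 y
    show α x * y * (α x)⁻¹ = α (x * α⁻¹ y * x⁻¹)
    rw [map_mul, map_mul, map_inv, MulAut.apply_inv_self]
  rw [h1, h]
  group

theorem four_inv (hK : Fintype.card K = 4 ^ 3) {F : K ≃+* K} (hF : ∀ a, F a = a ^ 2) (h6 : F ^ 6 = 1)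
    (g : ↥(twistedD4 K 4)) : orderOf (MulAut.conj g * fieldAut (stab_d4 4) F⁻¹) ≤ 945 := by
  have hq : IsPrimePow 4 := ⟨2, 2, Nat.prime_two.prime, by norm_num, by norm_num⟩
  obtain ⟨α, hα⟩ : ∃ α, α = MulAut.conj g * fieldAut (stab_d4 4) F⁻¹ := ⟨_, rfl⟩
  obtain ⟨x, hx⟩ := pow_mem_inn (g := g) (σ := F⁻¹) (n := 6) (by rw [inv_pow, h6, inv_one])
  rw [← hα] at hx ⊢
  have h1 := fix_of_pow hq hK hx
  have h2 : g * fieldAut (stab_d4 4) F⁻¹ x * g⁻¹ = x := by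
    rw [hα] at h1
    exact h1
  have h3 := ob_descend Nat.prime_two (q := 4) (by norm_num) hq hK (τ := F⁻¹) (fun a => by
    rw [← hF]; exact F.apply_symm_apply a) h2
  have h4 := ob_two h3
  have h5 : α ^ (6 * orderOf x) = 1 := by
    rw [pow_mul, ← hx, ← map_pow, pow_orderOf_eq_one, map_one]
  have h7 := Nat.le_of_dvd (Nat.mul_pos (by norm_num) ((orderOf_pos x :))) (orderOf_dvd_of_pow_eq_one h5)
  omega

theorem mo_four (hK : Fintype.card K = 4 ^ 3) : Mo ↥(twistedD4 K 4) 945 := by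
  have hq : IsPrimePow 4 := ⟨2, 2, Nat.prime_two.prime, by norm_num, by norm_num⟩
  obtain ⟨F, hF, hgen⟩ := exists_frob_six hK
  have hK' : Fintype.card K = 2 ^ 6 := by rw [hK]; norm_num
  have h6 : F ^ 6 = 1 := by
    have : Fact (Nat.Prime 2) := ⟨Nat.prime_two⟩
    have hc : CharP K 2 := H967.CopSz.charP_of_card Nat.prime_two hK'
    have hcard : Nat.card (K ≃+* K) = 6 := H166.FieldAut.card_ringAut 2 6 hK'
    rw [← hcard]
    exact pow_card_eq_one'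
  have hord : ∀ t : ↥(twistedD4 K 4), orderOf t ≤ 315 := fun t => by
    have h1 := ob_pf (K := K) (p := 2) (f := 2) Nat.prime_two (by norm_num) (by rw [hK]; norm_num) t
    exact ob_four h1
  have key : ∀ (g : ↥(twistedD4 K 4)) (σ : K ≃+* K) (n : ℕ), 0 < n → n ≤ 3 → σ ^ n = 1 →
      orderOf (MulAut.conj g * fieldAut (stab_d4 4) σ) ≤ 945 := by
    intro g σ n hn hn3 h
    obtain ⟨x, hx⟩ := pow_mem_inn (g := g) (σ := σ) (n := n) h
    have h5 : (MulAut.conj g * fieldAut (stab_d4 4) σ) ^ (n * orderOf x) = 1 := by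
      rw [pow_mul, ← hx, ← map_pow, pow_orderOf_eq_one, map_one]
    have h7 := Nat.le_of_dvd (Nat.mul_pos hn ((orderOf_pos x :))) (orderOf_dvd_of_pow_eq_one h5)
    have h8 := Nat.mul_le_mul hn3 (hord x)
    omega
  intro α
  obtain ⟨g, σ, rfl⟩ := exists_conj_field hq hK α
  obtain ⟨n, hn, rfl⟩ := hgen σ
  have h12 : F ^ 12 = 1 := by rw [show 12 = 6 * 2 by norm_num, pow_mul, h6, one_pow]
  interval_cases n
  · exact key g _ 1 (by norm_num) (by norm_num) (by rw [pow_one, pow_zero])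
  · have e : (MulAut.conj g * fieldAut (stab_d4 4) (F ^ 1))⁻¹ =
        MulAut.conj (fieldAut (stab_d4 4) F⁻¹ g⁻¹) * fieldAut (stab_d4 4) F⁻¹ := by
      rw [pow_one, mul_inv_rev, ← map_inv, ← map_inv]
      ext1 y
      show fieldAut (stab_d4 4) F⁻¹ (g⁻¹ * y * g⁻¹⁻¹) = fieldAut (stab_d4 4) F⁻¹ g⁻¹ * fieldAut (stab_d4 4) F⁻¹ y *
        (fieldAut (stab_d4 4) F⁻¹ g⁻¹)⁻¹
      rw [map_mul, map_mul, ← map_inv]
    rw [← orderOf_inv, e]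
    exact four_inv hK hF h6 _
  · exact key g _ 3 (by norm_num) (by norm_num) (by rw [← pow_mul]; exact h6)
  · exact key g _ 2 (by norm_num) (by norm_num) (by rw [← pow_mul]; exact h6)
  · exact key g _ 3 (by norm_num) (by norm_num) (by rw [← pow_mul]; exact h12)
  · have e : F ^ 5 = F⁻¹ := by
      rw [eq_inv_iff_mul_eq_one, ← pow_succ]
      exact h6
    rw [e]
    exact four_inv hK hF h6 g

theorem smC_four (hK : Fintype.card K = 4 ^ 3) : SmC ↥(twistedD4 K 4) :=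
  ⟨945, 4 * (4 ^ 4 - 4 ^ 2 + 1), mo_four hK, md ⟨2, 2, Nat.prime_two.prime, by norm_num, by norm_num⟩ hK, by norm_num⟩

end Four

end Cfsg.Agent.H872.TD4
end

-- part: H872/TD4/Inst
section
/-!
# TEAM TWOCYC (S3507), row `³D₄(2)`: the index of proper subgroups (helper872)

* `index_ge` : proper subgroups of `³D₄(2)` have index at least `224`;
* `sm_two` : `Sm ³D₄(2)`.
-/

set_option autoImplicit false
set_option linter.unusedSectionVars false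

namespace Cfsg.Agent.H872.TD4.Inst

open Cfsg Cfsg.Lie Cfsg.Lie.ChevalleyDatum
open Cfsg.Agent.ChevalleyStructure
open Cfsg.Agent.ChevalleyStructure.D4Fixed (fix mem_fix)
open Cfsg.Agent.ChevalleyStructure.TwistedU
open Cfsg.Agent.ChevalleyStructure.D4Twisted
open Cfsg.Agent.ChevalleyStructure.D4U
open Cfsg.Agent.Hexagon.TwD4RGD Cfsg.Agent.Hexagon.TwD4Rel Cfsg.Agent.Hexagon.TwD4Par
open Cfsg.Agent.SplitTwo
open Cfsg.Agent.TitsThree.RankTwoZ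
open Cfsg.Agent.H384.Cyc

universe u

section Field

variable {K : Type u} [Field K] [Fintype K]

theorem exists_data (hK : Fintype.card K = 2 ^ 3) : ∃ (φ : K →+* K) (σ : K ≃+* K),
    (∀ x, φ x = x ^ 2) ∧ (∀ x, σ x = φ x) ∧ (∀ a, σ (σ (σ a)) = a) ∧ ∃ c : K, c ≠ 0 ∧ c ≠ 1 := by
  obtain ⟨φ, hφ⟩ := D4Fixed.exists_frob (q := 2) Nat.prime_two.isPrimePow hK
  refine ⟨φ, RingEquiv.ofBijective φ (Finite.injective_iff_bijective.1 φ.injective), hφ, fun x => rfl, ?_, ?_⟩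
  · intro a
    show φ (φ (φ a)) = a
    rw [hφ, hφ, hφ, ← pow_mul, ← pow_mul]
    have h := FiniteField.pow_card a
    rw [hK] at h
    exact h
  · classical
    by_contra h
    push Not at h
    have h1 : (Finset.univ : Finset K) ⊆ {0, 1} := by
      intro x _
      by_cases h0 : x = 0
      · simp only [h0, _root_.Finset.mem_insert, _root_.Finset.mem_singleton, _root_.zero_ne_one, _root_.or_false]
      · simp only [h x h0, _root_.Finset.mem_insert, _root_.one_ne_zero, _root_.Finset.mem_singleton, _root_.or_true]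
    have h2 := Finset.card_le_card h1
    rw [Finset.card_univ, hK] at h2
    have h3 : ({0, 1} : Finset K).card ≤ 2 := Finset.card_le_two
    omega

theorem two_eq (hK : Fintype.card K = 2 ^ 3) : (1 : K) + 1 = 0 := by
  have : Fact (Nat.Prime 2) := ⟨Nat.prime_two⟩
  have hc : CharP K 2 := H967.CopSz.charP_of_card Nat.prime_two hK
  exact CharTwo.add_self_eq_zero 1

end Field

section

variable {K : Type u} [Field K] [Fintype K] {φ : K →+* K} {σ : K ≃+* K}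

theorem hd (hK : Fintype.card K = 2 ^ 3) (hφ : ∀ x, φ x = x ^ 2) (hσ : ∀ x, σ x = φ x)
    (h3 : ∀ a, σ (σ (σ a)) = a) {c : K} (hc0 : c ≠ 0) (hc1 : c ≠ 1) :
    Hex.HD σ (X K 2) (ev (X1 σ)) (ev X2) (ev (X3 σ)) (ev X4) (ev (X5 σ)) (ev X6) where
  par := hexPar hφ (D4Fixed.twisted_le_fix hK hφ) hσ h3
  fix a h := by
    rw [hσ, hφ] at h
    have h1 : a * (a - 1) = 0 := by linear_combination h
    rcases mul_eq_zero.1 h1 with h2 | h2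
    · exact Or.inl h2
    · exact Or.inr (sub_eq_zero.1 h2)
  trc b hb := by
    refine ⟨b⁻¹, ?_⟩
    unfold SplitTwo.trc
    rw [inv_mul_cancel₀ hb, map_one, map_one, two_eq hK, zero_add]
  crs b hb := by
    have h2 := two_eq hK
    refine ⟨c * b, ?_⟩
    have e : SplitTwo.crs σ (c * b) b = c ^ 2 * b ^ 6 * (1 + c) ^ 2 := by
      unfold SplitTwo.crs
      simp only [hσ, hφ]
      linear_combination (- c ^ 3 * b ^ 6) * h2
    rw [e]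
    have h4 : 1 + c ≠ 0 := by
      intro h5
      apply hc1
      linear_combination h5 - h2
    exact mul_ne_zero (mul_ne_zero (pow_ne_zero _ hc0) (pow_ne_zero _ hb)) (pow_ne_zero _ h4)

theorem exists_torus (hK : Fintype.card K = 2 ^ 3) (hφ : ∀ x, φ x = x ^ 2) (hσ : ∀ x, σ x = φ x)
    {c : K} (hc0 : c ≠ 0) (hc1 : c ≠ 1) : ∃ h : ↥(twistedD4 K 2), h ^ 7 = 1 ∧ (∀ k x, x ∈ X K 2 k → h * x * h⁻¹ ∈ X K 2 k) ∧
      ∀ a, ∃ b, (ev (X1 σ) a : ↥(twistedD4 K 2)) = h * ev (X1 σ) b * h⁻¹ * (ev (X1 σ) b)⁻¹ := by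
  have hle := D4Fixed.twisted_le_fix hK hφ
  have hd := hb_mem_diagonal (φ := φ) hc0
  refine ⟨⟨hb φ c, hb_mem hφ c⟩, ?_, ?_, ?_⟩
  · apply Subtype.ext
    have h1 := Schreier.ThreeD4.pow_card_sub_one hd
    rw [Nat.card_eq_fintype_card, hK] at h1
    exact h1
  · intro k x hx
    rw [mem_X] at hx ⊢
    exact H_RS hd (L_lt k) hx
  · obtain ⟨d, hd2⟩ := Schreier.ThreeD4.H_conj_b hd (hle (hb_mem hφ c)) (fun t => hle (X_mem_tw hφ t))
    have hdc : d = c ^ 2 := by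
      have h1 := hd2 1
      rw [Schreier.ThreeD4.sq_b hc0, mul_one] at h1
      exact (Schreier.ThreeD4.X_inj h1).symm
    have h2 := two_eq hK
    have h4 : c ^ 2 - 1 ≠ 0 := by
      intro h5
      have h6 : (c - 1) * (c - 1) = 0 := by linear_combination h5 + (1 - c) * h2
      rcases mul_eq_zero.1 h6 with h7 | h7 <;> exact hc1 (sub_eq_zero.1 h7)
    intro a
    refine ⟨a / (c ^ 2 - 1), ?_⟩
    apply Subtype.ext
    rw [Subgroup.coe_mul, Subgroup.coe_mul, Subgroup.coe_mul, Subgroup.coe_inv, Subgroup.coe_inv, c1 hφ hσ, c1 hφ hσ,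
      X1_eq σ φ hσ, X1_eq σ φ hσ, hd2, hdc, eq_mul_inv_iff_mul_eq, ← Schreier.ThreeD4.X_add]
    congr 1
    field_simp
    ring

seal _root_.Finset.sum _root_.dotProduct in
theorem index_ge (hK : Fintype.card K = 2 ^ 3) (M : Subgroup ↥(twistedD4 K 2)) (hM : M ≠ ⊤) : 224 ≤ M.index := by
  obtain ⟨φ, σ, hφ, hσ, h3, c, hc0, hc1⟩ := exists_data hK
  have H := hd hK hφ hσ h3 hc0 hc1
  obtain ⟨h, h7, hh, hx⟩ := exists_torus hK hφ hσ hc0 hc1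
  have hn := maps_nb (K := K) hφ
  have hS := (S1071.result (K := K) (q := 2) Nat.prime_two.isPrimePow hK).1
  obtain ⟨ω, hω⟩ : ∃ ω : ↥(twistedD4 K 2) ⧸ M, (ev X4 (1 : K) : ↥(twistedD4 K 2)) • ω ≠ ω := by
    by_contra hcon
    push Not at hcon
    have h1 : (ev X4 (1 : K) : ↥(twistedD4 K 2)) ∈ M.normalCore := by
      rw [M.normalCore_eq_ker, MonoidHom.mem_ker]
      ext x
      exact hcon x
    rcases Subgroup.Normal.eq_bot_or_eq_top (H := M.normalCore) inferInstance with h2 | h2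
    · rw [h2, Subgroup.mem_bot] at h1
      exact H.z_ne h1
    · exact hM (eq_top_iff.2 (h2 ▸ M.normalCore_le))
  have h8 : (8 : ZMod (2 * 6)) = ((6 : ℕ) : ZMod (2 * 6)) + 2 := by decide +kernel
  have := Act.card_ge H (by rw [Nat.card_eq_fintype_card, hK]; norm_num) (n := ⟨nb K, nb_mem hφ⟩)
    (fun k x => by rw [h8]; exact hn k x) h7 hh hx (hω :)
  rwa [← Subgroup.index_eq_card] at this

theorem sm_two (hK : Fintype.card K = 2 ^ 3) : Sm ↥(twistedD4 K 2) :=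
  ⟨84, mo_two hK, fun M hM => lt_of_lt_of_le (by norm_num) (index_ge hK M hM)⟩

end

end Cfsg.Agent.H872.TD4.Inst
end

private theorem dce_9a706976c3e2 : _root_.True := by
  try have : _root_.True := by simp only [_root_.Cfsg.Agent.H129.TriD4.embT.congr_simp]
  try have : _root_.True := by simp only [_root_.Cfsg.Agent.H129.TriD4.tau.congr_simp]
  exact _root_.True.intro
end
end
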