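import Cfsg.Agent.H489.Cyc.ONDeg
import Cfsg.Agent.SuzThree.NormAct
import Cfsg.Agent.Prune
set_option linter.all false
prune_inst 0x7f00000000000000000000000000000000000000000000000000000000000000000000000000000000000000000000000000000000000000000000000000000000000000000000000000000000000000003fffffffffffffffffffffffffffbeffbdffffffff
open scoped Cfsg.Agent.FastGrp

/-!
# TEAM TWOCYC (S3507): the Suzuki group has no element of order 27 (helper489)
-/

set_option autoImplicit false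
set_option maxRecDepth 100000

namespace Cfsg.Agent.H489.Cyc.SuzG.Three

open Subgroup Cfsg Cfsg.Spor
open Cfsg.Agent.SuzThree.Basic Cfsg.Agent.SuzThree.Elts Cfsg.Agent.SuzThree.Elementary
  Cfsg.Agent.SuzThree.NormElts Cfsg.Agent.SuzThree.FourTrans Cfsg.Agent.SuzThree.NormAct
open Cfsg.Agent.H19.Odd

/-- the words of two elements of order 3 modulo `A0` -/
def w1 : List Jx := [.j3, .j1, .j3, .j2]

def w2 : List Jx := [.j4, .j1, .j3, .j4]

noncomputable abbrev act : NA →* Equiv.Perm Ix := MulAction.toPermHom NA Ix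

noncomputable def n1 : NA := npr w1
noncomputable def n2 : NA := npr w2

theorem n1_smul (f : Ix) : n1 • f = ev w1 f := npr_smul w1 f
theorem n2_smul (f : Ix) : n2 • f = ev w2 f := npr_smul w2 f

theorem act1 (f : Ix) : act n1 f = ev w1 f := n1_smul f
theorem act2 (f : Ix) : act n2 f = ev w2 f := n2_smul f

theorem cube1 : act n1 ^ 3 = 1 := by
  ext f
  rw [pow_succ, pow_two, Equiv.Perm.mul_apply, Equiv.Perm.mul_apply, act1, act1, act1]
  revert f
  decide +kernel

theorem cube2 : act n2 ^ 3 = 1 := by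
  ext f
  rw [pow_succ, pow_two, Equiv.Perm.mul_apply, Equiv.Perm.mul_apply, act2, act2, act2]
  revert f
  decide +kernel

theorem comm12 : act n1 * act n2 = act n2 * act n1 := by
  ext f
  rw [Equiv.Perm.mul_apply, Equiv.Perm.mul_apply, act2, act1, act1, act2]
  revert f
  decide +kernel

theorem huv : act n1 * act n2 = act n2 * act n1 * 1 ^ 0 := by rw [comm12, one_pow, mul_one]

/-- the elementary abelian group of order nine -/
noncomputable def Ab : Subgroup (Equiv.Perm Ix) :=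
  Heis.P (Commute.one_left (act n1)) (Commute.one_left (act n2)) huv

theorem n1_mem : act n1 ∈ Ab := Heis.mem_P_u _ _ _
theorem n2_mem : act n2 ∈ Ab := Heis.mem_P_v _ _ _

theorem cube {g : Equiv.Perm Ix} (hg : g ∈ Ab) : g ^ 3 = 1 := by
  obtain ⟨j, i, l, rfl⟩ := hg
  have hc : Commute (act n2) (act n1) := comm12.symm
  rw [one_pow, mul_one, (hc.pow_pow j i).mul_pow, ← pow_mul, ← pow_mul, mul_comm j, mul_comm i, pow_mul,
    pow_mul, cube1, cube2, one_pow, one_pow, one_mul]

/-- the Sylow 3-subgroup -/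
noncomputable def Q : Subgroup NA := Ab.comap act

theorem pow_nine {n : NA} (hn : n ∈ Q) : (n : Suz) ^ 9 = 1 := by
  have h1 : act (n ^ 3) = 1 := by
    rw [map_pow]
    exact cube hn
  have h2 : ((n ^ 3 : NA) : Suz) ∈ A0 := by
    have h3 : ∀ f : Ix, n ^ 3 • f = f := fun f => congrArg (fun σ : Equiv.Perm Ix => σ f) h1
    exact mem_of_fix (h3 _) (h3 _) (h3 _) (h3 _)
  obtain ⟨v, hv⟩ := mem_A0.1 h2
  have h4 : E v ^ 3 = 1 := by
    rw [pow_succ, pow_two, ← E_add, ← E_add]
    have h5 : ∀ w : V, w + w + w = 0 := by decide +kernel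
    rw [h5, E_zero]
  rw [hv] at h4
  have h5 : ((n ^ 3 : NA) : Suz) = (n : Suz) ^ 3 := rfl
  rw [h5, ← pow_mul] at h4
  exact h4

theorem A0_mem {n : NA} (hn : (n : Suz) ∈ A0) : n ∈ Q := by
  have h1 : act n = 1 := by
    ext f
    exact A0_smul hn f
  show act n ∈ Ab
  rw [h1]
  exact Ab.one_mem

theorem orbit_le : {f : Ix | f ≠ Ix.i0 ∧ f ≠ Ix.i1} ⊆ MulAction.orbit Q Ix.i2 := by
  rintro f ⟨h0, h1⟩
  have h : ∃ i j : Fin 3, (ev w1)^[i] ((ev w2)^[j] Ix.i2) = f := by
    revert f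
    decide +kernel
  obtain ⟨i, j, rfl⟩ := h
  have hp : ∀ (n : NA) (w : List Jx), (∀ f : Ix, n • f = ev w f) → ∀ (k : ℕ) (f : Ix), n ^ k • f = (ev w)^[k] f := by
    intro n w hw k
    induction k with
    | zero => intro f; rw [pow_zero, one_smul]; rfl
    | succ k ih => intro f; rw [pow_succ, mul_smul, hw, ih]; rfl
  refine ⟨⟨n1 ^ (i : ℕ) * n2 ^ (j : ℕ), Q.mul_mem (Q.pow_mem (show act n1 ∈ Ab from n1_mem) _)
    (Q.pow_mem (show act n2 ∈ Ab from n2_mem) _)⟩, ?_⟩
  show (n1 ^ (i : ℕ) * n2 ^ (j : ℕ)) • Ix.i2 = _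
  rw [mul_smul, hp n2 w2 n2_smul, hp n1 w1 n1_smul]

theorem card_Q : 3 ^ 7 ≤ Nat.card Q := by
  have hc : Nat.card Suz = 448345497600 := Cfsg.Agent.SporadicRecognition.SuzOrder.card_Suz
  have hfin : Finite Suz := Nat.finite_of_card_ne_zero (by rw [hc]; norm_num)
  have h9 : 9 ≤ (MulAction.orbit Q Ix.i2).ncard := by
    have h1 : {f : Ix | f ≠ Ix.i0 ∧ f ≠ Ix.i1} =
        ((Finset.univ.filter fun f : Ix => f ≠ Ix.i0 ∧ f ≠ Ix.i1 : Finset Ix) : Set Ix) := by
      ext f; simp
    have h2 : ({f : Ix | f ≠ Ix.i0 ∧ f ≠ Ix.i1}).ncard = 9 := by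
      rw [h1, Set.ncard_coe_finset]
      decide
    rw [← h2]
    exact Set.ncard_le_ncard orbit_le (Set.toFinite _)
  have h2 : Nat.card (MulAction.stabilizer Q Ix.i2) * (MulAction.orbit Q Ix.i2).ncard = Nat.card Q := by
    rw [← MulAction.index_stabilizer, Subgroup.card_mul_index]
  let H : Subgroup Suz := ((MulAction.stabilizer Q Ix.i2).map Q.subtype).map NA.subtype
  have h3 : Nat.card H = Nat.card (MulAction.stabilizer Q Ix.i2) := by
    rw [Nat.card_congr ((((MulAction.stabilizer Q Ix.i2).map Q.subtype).equivMapOfInjective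
      NA.subtype Subtype.val_injective).symm.toEquiv),
      Nat.card_congr (((MulAction.stabilizer Q Ix.i2).equivMapOfInjective
      Q.subtype Subtype.val_injective).symm.toEquiv)]
  have h4 : A0 ≤ H := by
    intro a ha
    have han : a ∈ NA := Subgroup.le_normalizer ha
    exact ⟨⟨a, han⟩, ⟨⟨⟨a, han⟩, A0_mem ha⟩, A0_smul (n := ⟨a, han⟩) ha Ix.i2, rfl⟩, rfl⟩
  have h5 : 243 ≤ Nat.card H := by
    rw [← card_A0]
    exact Subgroup.card_le_of_le h4
  rw [← h2, ← h3]
  calc 3 ^ 7 = 243 * 9 := by norm_num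
    _ ≤ _ := Nat.mul_le_mul h5 h9

/-- **The Sylow 3-subgroup has exponent 9.** -/
theorem not_27 (x : Suz) : ¬ 27 ∣ orderOf x := by
  have hc : Nat.card Suz = 448345497600 := Cfsg.Agent.SporadicRecognition.SuzOrder.card_Suz
  have hfin : Finite Suz := Nat.finite_of_card_ne_zero (by rw [hc]; norm_num)
  have h := not_dvd_of_exp (e := 2) (n := 7) Nat.prime_three (P := Q.map NA.subtype) ?_ ?_
    (by rw [hc]; norm_num) ?_ x
  · exact h
  · intro g
    obtain ⟨g, n, hn, rfl⟩ := g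
    exact ⟨2, Subtype.ext (pow_nine hn)⟩
  · rw [← Nat.card_congr (Subgroup.equivMapOfInjective Q _ Subtype.val_injective).toEquiv]
    exact card_Q
  · rintro _ ⟨n, hn, rfl⟩
    exact pow_nine hn

end Cfsg.Agent.H489.Cyc.SuzG.Three
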